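import Cfsg.Agent.Lib.RootSub.SameOdd
import Cfsg.Agent.Lib.RootSub.Generation

/-!
# Root involutions, structure theorem: general lemmas

Commutators of two members, classes of members with the same commuting members, mates.
-/

set_option autoImplicit false

namespace CfsgLib.RootInvol.Structure

open CfsgLib.RootInvol

variable {G : Type*} [Group G] {D : Set G}

/-- The commutator of two involutions. -/
abbrev cm (x y : G) : G := (x * y) ^ 2

theorem cm_def (x y : G) : cm x y = x * y * x * y := by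
  simp only [cm, pow_two, mul_assoc]

/-- Cancellation of an involution. -/
theorem cancel {a : G} (h : a * a = 1) (z : G) : a * (a * z) = z := by
  rw [← mul_assoc, h, one_mul]

theorem cm_eq_one_of_commute (hD : Cfsg.IsRootInvolutionSet D) {x y : G} (hx : x ∈ D) (hy : y ∈ D)
    (h : Commute x y) : cm x y = 1 := by
  rw [cm, h.mul_pow, pow_two, pow_two, mul_self hD hx, mul_self hD hy, one_mul]

theorem commute_of_cm_eq_one (hD : Cfsg.IsRootInvolutionSet D) {x y : G} (hx : x ∈ D) (hy : y ∈ D)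
    (h : cm x y = 1) : Commute x y := by
  rw [cm, pow_two] at h
  have h1 := eq_inv_of_mul_eq_one_left h
  rwa [mul_inv_rev, inv_eq hD hx, inv_eq hD hy] at h1

theorem four_of_not_odd (hD : Cfsg.IsRootInvolutionSet D) {x y : G} (hx : x ∈ D) (hy : y ∈ D)
    (hno : ¬ Cfsg.OddAdj D x y) (hnc : ¬ Commute x y) : orderOf (x * y) = 4 :=
  four_of hD hx hy hnc hno

theorem cm_cases (hD : Cfsg.IsRootInvolutionSet D) {x y : G} (hx : x ∈ D) (hy : y ∈ D)
    (hno : ¬ Cfsg.OddAdj D x y) :
    (Commute x y ∧ cm x y = 1) ∨ (¬ Commute x y ∧ cm x y ∈ D ∧ orderOf (x * y) = 4) := by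
  by_cases h : Commute x y
  · exact Or.inl ⟨h, cm_eq_one_of_commute hD hx hy h⟩
  · exact Or.inr ⟨h, (four_facts hD hx hy (four_of hD hx hy h hno)).1, four_of hD hx hy h hno⟩

theorem cm_symm_of_four (hD : Cfsg.IsRootInvolutionSet D) {x y : G} (hx : x ∈ D) (hy : y ∈ D)
    (h : orderOf (x * y) = 4) : cm y x = cm x y := by
  have h1 := inv_eq hD (four_facts hD hx hy h).1
  rwa [← inv_pow, mul_inv_rev, inv_eq hD hx, inv_eq hD hy] at h1

theorem cm_symm (hD : Cfsg.IsRootInvolutionSet D) {x y : G} (hx : x ∈ D) (hy : y ∈ D)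
    (hno : ¬ Cfsg.OddAdj D x y) : cm y x = cm x y := by
  rcases cm_cases hD hx hy hno with ⟨h, e⟩ | ⟨-, -, h4⟩
  · rw [e, cm_eq_one_of_commute hD hy hx h.symm]
  · exact cm_symm_of_four hD hx hy h4

/-- The commutator commutes with both entries. -/
theorem commute_cm (hD : Cfsg.IsRootInvolutionSet D) {x y : G} (hx : x ∈ D) (hy : y ∈ D)
    (hno : ¬ Cfsg.OddAdj D x y) : Commute x (cm x y) ∧ Commute y (cm x y) := by
  rcases cm_cases hD hx hy hno with ⟨-, e⟩ | ⟨-, -, h4⟩
  · rw [e]; exact ⟨Commute.one_right _, Commute.one_right _⟩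
  · exact ⟨(four_facts hD hx hy h4).2.1, (four_facts hD hx hy h4).2.2.1⟩

/-- Conjugation of `y` by `x`. -/
theorem conj_eq (hD : Cfsg.IsRootInvolutionSet D) {x y : G} (hx : x ∈ D) (hy : y ∈ D)
    (hno : ¬ Cfsg.OddAdj D x y) : x * y * x = y * cm x y := by
  rw [← cm_symm hD hx hy hno, cm_def]
  simp only [mul_assoc, cancel (mul_self hD hy)]

theorem conj_cm (g x y : G) : g * cm x y * g⁻¹ = cm (g * x * g⁻¹) (g * y * g⁻¹) := by
  simp only [cm]
  rw [← conj_pow]
  group

theorem cm_mul {x a b : G} (hx : x * x = 1) (ha : a * a = 1) (hab : Commute a b) :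
    cm x (a * b) = cm x a * (a * cm x b * a) := by
  have h : a * b = b * a := hab
  simp only [cm_def, mul_assoc, cancel ha, cancel hx]
  rw [h]

theorem commute_mul_of_cm_eq (hD : Cfsg.IsRootInvolutionSet D) {x a b : G} (ha : a ∈ D)
    (hb : b ∈ D) (h : cm x a = cm x b) : Commute x (a * b) := by
  simp only [cm_def, mul_assoc] at h
  have h1 : a * (x * a) = b * (x * b) := mul_left_cancel h
  have h2 : x * a = a * (b * (x * b)) := by rw [← h1, cancel (mul_self hD ha)]
  show x * (a * b) = a * b * x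
  rw [← mul_assoc, h2]
  simp only [mul_assoc, mul_self hD hb, mul_one]

theorem oddAdj_of_three (hD : Cfsg.IsRootInvolutionSet D) {x y : G} (hx : x ∈ D) (hy : y ∈ D)
    (h : orderOf (x * y) = 3) : Cfsg.OddAdj D x y :=
  ⟨hx, hy, fun e => by
    rw [e, mul_self hD hy, orderOf_one] at h
    exact absurd h (by decide), by rw [h]; decide⟩

theorem three_conj (hD : Cfsg.IsRootInvolutionSet D) {x y : G} (hx : x ∈ D) (hy : y ∈ D)
    (h : orderOf (x * y) = 3) :
    x * y * x = y * x * y ∧ x * y * x * x * (x * y * x) = y := by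
  have h1 : (x * y) ^ 3 = 1 := by rw [← h, pow_orderOf_eq_one]
  have h2 : x * y * x * (y * x * y) = 1 := by
    rw [← h1]; simp only [pow_succ, pow_zero, one_mul, mul_assoc]
  have h3 : x * y * x = y * x * y := by
    have := eq_inv_of_mul_eq_one_left h2
    rw [mul_inv_rev, mul_inv_rev, inv_eq hD hx, inv_eq hD hy] at this
    rw [this]
    simp only [mul_assoc]
  refine ⟨h3, ?_⟩
  calc x * y * x * x * (x * y * x) = x * y * x * (y * x) := by
        simp only [mul_assoc, cancel (mul_self hD hx)]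
    _ = y * x * y * (y * x) := by rw [h3]
    _ = y := by simp only [mul_assoc, cancel (mul_self hD hy), mul_self hD hx, mul_one]

/-- `forbidden` with an involution in place of the member `α`. -/
theorem forbidden' (hD : Cfsg.IsRootInvolutionSet D) {α β y : G} (hα : α * α = 1) (hα1 : α ≠ 1)
    (hαβ : α * β ∈ D) (hc : Commute α β) (hy : Commute α y) (h : Cfsg.OddAdj D β y) : False := by
  have hord : orderOf α = 2 := orderOf_eq_prime (by rw [pow_two, hα]) hα1
  have hcw : Commute α (β * y) := hc.mul_right hy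
  have hcop : (orderOf α).Coprime (orderOf (β * y)) := by
    rw [hord]; exact Nat.coprime_two_left.2 h.2.2.2
  have ho : orderOf (α * β * y) = 2 * orderOf (β * y) := by
    rw [mul_assoc, hcw.orderOf_mul_eq_mul_orderOf_of_coprime hcop, hord]
  have hw : β * y ≠ 1 := fun e => h.2.2.1 (by
    rw [← inv_eq hD h.2.1]; exact eq_inv_of_mul_eq_one_left e)
  obtain ⟨j, hj⟩ := h.2.2.2
  have hj0 : orderOf (β * y) ≠ 1 := fun e => hw (orderOf_eq_one_iff.1 e)
  rcases hD.pair (α * β) hαβ y h.2.1 with h' | h' | ⟨h', -⟩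
  · have h2 : (α * β * y) ^ 2 = 1 := cm_eq_one_of_commute hD hαβ h.2.1 h'
    have := Nat.le_of_dvd (by norm_num) (orderOf_dvd_of_pow_eq_one h2)
    omega
  · rw [ho] at h'
    exact absurd (even_two_mul _) (Nat.not_even_iff_odd.2 h')
  · omega

/-- Members with the same commuting members have the same odd partners. -/
theorem same_of_class (hD : Cfsg.IsRootInvolutionSet D) {a b : G} (ha : a ∈ D)
    (hb : b ∈ Cfsg.sameCommutingClass D a) : Same D a b := by
  have key : ∀ a ∈ D, ∀ b ∈ D, Cfsg.commutingMembers D a = Cfsg.commutingMembers D b →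
      ∀ y, Cfsg.OddAdj D a y → Cfsg.OddAdj D b y := by
    intro a ha b hb h y hy
    by_contra hno
    by_cases hby : b * y = y * b
    · have hm : y ∈ Cfsg.commutingMembers D b := ⟨hy.2.1, hby.symm⟩
      rw [← h] at hm
      exact commute_not_odd hD ha hy.2.1 hy.2.2.1 hm.2.symm hy.2.2.2
    · obtain ⟨hg, cbg, cyg, -, eyg, -⟩ := four_facts hD hb hy.2.1 (four_of hD hb hy.2.1 hby hno)
      have hm : (b * y) ^ 2 ∈ Cfsg.commutingMembers D b := ⟨hg, cbg.eq.symm⟩
      rw [← h] at hm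
      refine forbidden hD hg ?_ cyg.eq.symm hm.2 (oddAdj_symm hD hy)
      rw [← cyg.eq, eyg]
      have := hD.conj_mem y hy.2.1 b
      rwa [inv_eq hD hb] at this
  exact fun y => ⟨key a ha b hb.1 hb.2 y, key b hb.1 a ha hb.2.symm y⟩

theorem mem_class_of_same [Finite G] (hD : Cfsg.IsRootInvolutionSet D)
    (hc : Cfsg.IsConnectedSet (Cfsg.OddAdj D) D) {a b : G} (ha : a ∈ D) (hb : b ∈ D)
    (h : Same D a b) : b ∈ Cfsg.sameCommutingClass D a :=
  ⟨hb, Set.ext fun _ => ⟨fun hy => ⟨hy.1, same_commuting hD hc ha hb hy.1 h hy.2⟩,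
    fun hy => ⟨hy.1, same_commuting hD hc hb ha hy.1 (fun z => (h z).symm) hy.2⟩⟩⟩

theorem commute_class {a e y : G} (he : e ∈ Cfsg.sameCommutingClass D a) (hy : y ∈ D)
    (h : Commute y a) : Commute y e := by
  have : y ∈ Cfsg.commutingMembers D a := ⟨hy, h⟩
  rw [he.2] at this
  exact this.2

theorem commute_class' {a e y : G} (he : e ∈ Cfsg.sameCommutingClass D a) (hy : y ∈ D)
    (h : Commute y e) : Commute y a := by
  have : y ∈ Cfsg.commutingMembers D e := ⟨hy, h⟩
  rw [← he.2] at this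
  exact this.2

theorem class_trans {a e z : G} (he : e ∈ Cfsg.sameCommutingClass D a)
    (hz : z ∈ Cfsg.sameCommutingClass D a) : z ∈ Cfsg.sameCommutingClass D e :=
  ⟨hz.1, he.2.symm.trans hz.2⟩

theorem commutingMembers_conj (hD : Cfsg.IsRootInvolutionSet D) (g a : G) :
    Cfsg.commutingMembers D (g * a * g⁻¹) = {y | g⁻¹ * y * g ∈ Cfsg.commutingMembers D a} := by
  ext y
  constructor
  · rintro ⟨hy, hc⟩
    refine ⟨by simpa using hD.conj_mem y hy g⁻¹, ?_⟩
    calc g⁻¹ * y * g * a = g⁻¹ * (y * (g * a * g⁻¹)) * g := by group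
      _ = g⁻¹ * (g * a * g⁻¹ * y) * g := by rw [hc]
      _ = a * (g⁻¹ * y * g) := by group
  · rintro ⟨hy, hc⟩
    have h1 := hD.conj_mem _ hy g
    rw [show g * (g⁻¹ * y * g) * g⁻¹ = y by group] at h1
    refine ⟨h1, ?_⟩
    calc y * (g * a * g⁻¹) = g * (g⁻¹ * y * g * a) * g⁻¹ := by group
      _ = g * (a * (g⁻¹ * y * g)) * g⁻¹ := by rw [hc]
      _ = g * a * g⁻¹ * y := by group

theorem class_conj (hD : Cfsg.IsRootInvolutionSet D) {a e : G}
    (he : e ∈ Cfsg.sameCommutingClass D a) (g : G) :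
    g * e * g⁻¹ ∈ Cfsg.sameCommutingClass D (g * a * g⁻¹) :=
  ⟨hD.conj_mem e he.1 g, by rw [commutingMembers_conj hD, commutingMembers_conj hD, he.2]⟩

theorem ncard_class_le [Finite G] (hD : Cfsg.IsRootInvolutionSet D) (g a : G) :
    (Cfsg.sameCommutingClass D a).ncard ≤ (Cfsg.sameCommutingClass D (g * a * g⁻¹)).ncard :=
  Set.ncard_le_ncard_of_injOn (fun e => g * e * g⁻¹) (fun _ he => class_conj hD he g)
    (fun _ _ _ _ h => mul_left_cancel (mul_right_cancel h)) (Set.toFinite _)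

theorem ncard_class [Finite G] (hcl : Cfsg.IsRootInvolutionClass D) {a b : G} (ha : a ∈ D)
    (hb : b ∈ D) :
    (Cfsg.sameCommutingClass D a).ncard = (Cfsg.sameCommutingClass D b).ncard := by
  obtain ⟨g, rfl⟩ := hcl.2.2 a ha b hb
  refine le_antisymm (ncard_class_le hcl.1 g a) ?_
  have := ncard_class_le hcl.1 g⁻¹ (g * a * g⁻¹)
  rwa [show g⁻¹ * (g * a * g⁻¹) * g⁻¹⁻¹ = a by group] at this

theorem mul_mem_class (hD : Cfsg.IsRootInvolutionSet D)
    (hE : ∀ d ∈ D, (Cfsg.sameCommutingSubgroup D d : Set G) = Cfsg.sameCommutingClass D d ∪ {1})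
    {a x y : G} (ha : a ∈ D) (hx : x ∈ Cfsg.sameCommutingClass D a)
    (hy : y ∈ Cfsg.sameCommutingClass D a) (hne : x ≠ y) :
    x * y ∈ Cfsg.sameCommutingClass D a := by
  have h : x * y ∈ (Cfsg.sameCommutingSubgroup D a : Set G) :=
    Subgroup.mul_mem _ (Subgroup.subset_closure hx) (Subgroup.subset_closure hy)
  rw [hE a ha] at h
  rcases h with h | h
  · exact h
  · rw [Set.mem_singleton_iff] at h
    exact absurd ((eq_inv_of_mul_eq_one_left h).trans (inv_eq hD hy.1)) hne

theorem mem_productPartners_symm {a b : G} (ha : a ∈ D) (h : b ∈ Cfsg.productPartners D a) :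
    a ∈ Cfsg.productPartners D b :=
  ⟨⟨ha, h.1.2.1.symm, h.1.2.2.symm⟩, by rw [← h.1.2.1]; exact h.2⟩

/-- A product partner outside the class has a mate. -/
theorem mate [Finite G] (hD : Cfsg.IsRootInvolutionSet D)
    (hO : Cfsg.IsConnectedSet (Cfsg.OddAdj D) D) {e N : G} (he : e ∈ D)
    (hN : N ∈ Cfsg.productPartners D e) (hnot : N ∉ Cfsg.sameCommutingClass D e) :
    ∃ m ∈ D, Commute N m ∧ cm e m = N ∧ cm m e = N ∧ orderOf (m * e) = 4 ∧
      ∀ c ∈ D, cm N c = e → orderOf (c * m) = 3 := by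
  obtain ⟨x, ⟨hx, h4⟩, h3⟩ := Cfsg.Agent.S5047.result hD hO he hN hnot
  have hND : N ∈ D := hN.1.1
  have hNe : N * e = e * N := hN.1.2.1
  have h4' : orderOf (x * N) = 4 := by rw [orderOf_mul_comm hD hND hx]; exact h4
  have hm := sq_mem_productPartners hD hx hND h4'
  have hpr := propagate hD he hx hND h3 hNe.symm (by rw [← hNe]; exact hN.2) h4'
  set m := (x * N) ^ 2
  have hmD : m ∈ D := hm.1.1
  have o := four_of_sq hD he hmD hND hpr
  refine ⟨m, hmD, hm.1.2.1.symm, hpr, by rw [cm_symm_of_four hD he hmD o]; exact hpr,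
    by rw [orderOf_mul_comm hD he hmD]; exact o, fun c hc h => ?_⟩
  exact braid hD he hND hc hmD h hpr

end CfsgLib.RootInvol.Structure
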