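import Cfsg.Agent.Lib.RootSub.Structure.Setup

/-!
# Root involutions, structure theorem: a frame around a commutator outside the class
-/

set_option autoImplicit false
set_option linter.unusedSectionVars false

namespace CfsgLib.RootInvol.Structure

open CfsgLib.RootInvol

variable {G : Type*} [Group G]

/-- A commutator `c` of `v` and `b`, moved into the class of `d` by `n`, and a mate `m`. -/
structure Frame (D : Set G) (d : G) (S : Set G) (v b c n e m : G) : Prop where
  sub : S ⊆ Wset D d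
  step : ∀ r ∈ S, ∀ y ∈ Wset D d, cm r y ∈ Cfsg.sameCommutingSubgroup D d
  inv : ∀ σ ∈ Cfsg.sameCommutingClass D d, ∀ g : G, Commute g σ → ∀ r ∈ S, g * r * g⁻¹ ∈ S
  v_W : v ∈ Wset D d
  b_W : b ∈ Wset D d
  vb : ¬ Commute v b
  c_eq : cm v b = c
  c_S : c ∈ S
  n_W : n ∈ Wset D d
  cn : ¬ Commute c n
  e_eq : cm c n = e
  e_class : e ∈ Cfsg.sameCommutingClass D d
  m_D : m ∈ D
  m_four : orderOf (m * e) = 4
  m_eq : cm m e = n
  cm_three : orderOf (c * m) = 3

theorem conj_mul2 {a : G} (h : a * a = 1) (x y : G) : a * (x * y) * a = a * x * a * (a * y * a) := by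
  simp only [mul_assoc, cancel h]

namespace Frame

variable {D : Set G} {d : G} {S : Set G} {v b c n e m : G}

theorem symm [Finite G] (K : Ctx D d) (F : Frame D d S v b c n e m) : Frame D d S b v c n e m :=
  { F with
    v_W := F.b_W
    b_W := F.v_W
    vb := fun h => F.vb h.symm
    c_eq := (cm_symm K.root (K.W_D F.v_W) (K.W_D F.b_W) (K.not_odd_W F.v_W F.b_W)).trans F.c_eq }

variable (K : Ctx D d) (F : Frame D d S v b c n e m)

include K F

theorem c_W : c ∈ Wset D d := F.sub F.c_S

theorem c_D : c ∈ D := K.W_D (F.c_W K)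

theorem commute_c [Finite G] : Commute v c ∧ Commute b c := by
  rw [← F.c_eq]
  exact commute_cm K.root (K.W_D F.v_W) (K.W_D F.b_W) (K.not_odd_W F.v_W F.b_W)

/-- The basic map of the class of `n` onto the class of `d`. -/
theorem bij [Finite G] :
    (∀ β ∈ Cfsg.sameCommutingClass D n, cm c β ∈ Cfsg.sameCommutingClass D d) ∧
    (∀ β ∈ Cfsg.sameCommutingClass D n, ∀ β' ∈ Cfsg.sameCommutingClass D n,
      cm c β = cm c β' → β = β') ∧
    (∀ σ ∈ Cfsg.sameCommutingClass D d, ∃ β ∈ Cfsg.sameCommutingClass D n, cm c β = σ) :=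
  K.cm_class (F.c_W K) F.n_W F.cn fun _ hβ => F.step c F.c_S _ (K.class_W F.n_W hβ)

theorem fiber [Finite G] {β : G} (hβ : β ∈ Cfsg.sameCommutingClass D n) :
    orderOf (m * cm c β) = 4 ∧ cm m (cm c β) = β ∧ Commute β m ∧
      c * m * c * β * (c * m * c) = cm c β := by
  have hD := K.root
  have hσ := (F.bij K).1 β hβ
  have hcD := F.c_D K
  set σ := cm c β with hσdef
  have hsame : σ ∈ Cfsg.sameCommutingClass D e := class_trans F.e_class hσ
  have o : orderOf (m * σ) = 4 := by
    refine four_of hD F.m_D hσ.1 (fun h => not_commute_of_four hD F.m_D F.e_class.1 F.m_four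
      (commute_class' hsame F.m_D h)) fun hodd => ?_
    have h1 := oddAdj_symm hD ((same_of_class hD F.e_class.1 hsame m).2 (oddAdj_symm hD hodd))
    have h2 := h1.2.2.2
    rw [F.m_four] at h2
    exact absurd h2 (by decide)
  obtain ⟨hfD, cmf, cσf, -, eσ, -⟩ := four_facts hD F.m_D hσ.1 o
  have ccσ : Commute c σ := K.Ed_commute hσ (F.c_W K)
  have hcσD : c * σ ∈ D := by
    have o' := K.four_W (F.c_W K) (K.class_W F.n_W hβ) fun h => F.cn (commute_class' hβ hcD h)
    obtain ⟨-, -, -, e', -, -⟩ := four_facts hD hcD hβ.1 o'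
    rw [show c * σ = β * c * β from e']
    have := hD.conj_mem c hcD β
    rwa [inv_eq hD hβ.1] at this
  have hp := propagate hD hcD F.m_D hσ.1 F.cm_three ccσ hcσD o
  set f := (m * σ) ^ 2 with hfdef
  obtain ⟨-, -, -, -, ecf, -⟩ := four_facts hD hcD hfD (four_of_sq hD hcD hfD hσ.1 hp)
  rw [hp] at ecf
  have sc := mul_self hD hcD
  have sσ := mul_self hD hσ.1
  have t1 : c * σ * c = σ := by rw [ccσ.eq, mul_assoc, sc, mul_one]
  have hs : c * m * c * σ * (c * m * c) = f := by
    calc c * m * c * σ * (c * m * c) = c * (m * (c * σ * c) * m) * c := by simp only [mul_assoc]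
      _ = c * (σ * f) * c := by rw [t1, eσ]
      _ = σ * (f * σ) := by rw [conj_mul2 sc, t1, ecf]
      _ = f := by rw [← mul_assoc, cσf.eq, mul_assoc, sσ, mul_one]
  have hse : c * m * c * e * (c * m * c) = n := by
    obtain ⟨-, -, ce, -, ee, -⟩ := four_facts hD F.m_D F.e_class.1 F.m_four
    rw [show (m * e) ^ 2 = n from F.m_eq] at ce ee
    have cce : Commute c e := K.Ed_commute F.e_class (F.c_W K)
    have t : c * e * c = e := by rw [cce.eq, mul_assoc, sc, mul_one]
    have t' : c * n * c = n * e := by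
      rw [conj_eq hD hcD (K.W_D F.n_W) (K.not_odd_W (F.c_W K) F.n_W), F.e_eq]
    calc c * m * c * e * (c * m * c) = c * (m * (c * e * c) * m) * c := by simp only [mul_assoc]
      _ = c * (e * n) * c := by rw [t, ee]
      _ = e * (n * e) := by rw [conj_mul2 sc, t, t']
      _ = n := by rw [← mul_assoc, ce.eq, mul_assoc, mul_self hD F.e_class.1, mul_one]
  have hsinv : (c * m * c)⁻¹ = c * m * c := by
    simp only [mul_inv_rev, inv_eq hD hcD, inv_eq hD F.m_D, mul_assoc]
  have hfn : f ∈ Cfsg.sameCommutingClass D n := by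
    have := class_conj hD hsame (c * m * c)
    rwa [hsinv, hs, hse] at this
  have hf : f = β := (F.bij K).2.1 f hfn β hβ (by show cm c f = σ; exact hp)
  refine ⟨o, hf, hf ▸ cmf.symm, ?_⟩
  rw [← hf, ← hs]
  simp only [mul_assoc, cancel sc, cancel (mul_self hD F.m_D), sc, mul_one]

theorem c_commute_cm [Finite G] {x β : G} (hx : x ∈ Wset D d)
    (hβ : β ∈ Cfsg.sameCommutingClass D n) (hcx : Commute c x) (hnc : ¬ Commute x β) :
    Commute c (cm x β) := by
  have hD := K.root
  have hβW := K.class_W F.n_W hβ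
  have hJ := K.cm_W hx hβW hnc
  by_contra h
  have h1 := K.mem_Ed (F.step c F.c_S _ hJ) (K.cm_ne_one (F.c_D K) (K.W_D hJ) h)
  refine K.lemma1 hβW hx (F.c_W K) (fun hh => hnc hh.symm) hcx ?_
  rw [cm_symm hD (K.W_D hx) hβ.1 (K.not_odd_W hx hβW),
    cm_symm hD (F.c_D K) (K.W_D hJ) (K.not_odd_W (F.c_W K) hJ)]
  exact h1

/-- Members with equal commutators with `b` in the class coincide. -/
theorem cm_inj [Finite G] (hnb : ∀ β ∈ Cfsg.sameCommutingClass D n, ¬ Commute b β) {β β' : G}
    (hβ : β ∈ Cfsg.sameCommutingClass D n) (hβ' : β' ∈ Cfsg.sameCommutingClass D n)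
    (h : cm b β = cm b β') : β = β' := by
  by_contra hne
  exact hnb _ (mul_mem_class K.root K.classes (K.W_D F.n_W) hβ hβ' hne)
    (commute_mul_of_cm_eq K.root hβ.1 hβ'.1 h)

/-- Members with commutators in one class have centralizers in `S` of one size. -/
theorem ncard_le [Finite G] {J β y ι : G} (hJ : J ∈ Wset D d) (hβ : β ∈ Wset D d)
    (hy : y ∈ Wset D d) (hι : ι ∈ Cfsg.sameCommutingClass D d) (e1 : cm J y = ι) (e2 : cm β y = ι) :
    {r | r ∈ S ∧ Commute r J}.ncard ≤ {r | r ∈ S ∧ Commute r β}.ncard := by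
  have hD := K.root
  have hJD := K.W_D hJ
  have hyD := K.W_D hy
  have hβD := K.W_D hβ
  have o1 := four_of_sq hD hJD hyD hι.1 e1
  have o2 := four_of_sq hD hβD hyD hι.1 e2
  have hyι : y ∈ Cfsg.productPartners D ι := by
    have := sq_mem_productPartners hD hJD hyD o1
    rw [show (J * y) ^ 2 = ι from e1] at this
    exact mem_productPartners_symm hyD this
  have hnot : y ∉ Cfsg.sameCommutingClass D ι := fun hcl =>
    not_commute_of_four hD hJD hyD o1 (commute_class hcl hJD (K.Ed_commute hι hJ))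
  obtain ⟨k, hkD, -, -, hk, o4, hbraid⟩ := mate hD K.oddConn hι.1 hyι hnot
  obtain ⟨-, -, -, -, ek, -⟩ := four_facts hD hkD hι.1 o4
  rw [show (k * ι) ^ 2 = y from hk] at ek
  have key : ∀ X ∈ Wset D d, cm X y = ι → orderOf (X * y) = 4 →
      X * k * X * ι * (X * k * X) = y ∧ X * k * X * X * (X * k * X) = k ∧
        X * k * X * (X * k * X) = 1 := by
    intro X hX eX o
    have hXD := K.W_D hX
    have sX := mul_self hD hXD
    have cXι : Commute X ι := K.Ed_commute hι hX
    have t1 : X * ι * X = ι := by rw [cXι.eq, mul_assoc, sX, mul_one]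
    have t2 : X * y * X = y * ι := by
      obtain ⟨-, -, -, -, ey, -⟩ := four_facts hD hXD hyD o
      rw [show (X * y) ^ 2 = ι from eX] at ey
      exact ey.symm
    have h3 := hbraid X hXD (by rw [cm_symm hD hXD hyD (K.not_odd_W hX hy)]; exact eX)
    refine ⟨?_, (three_conj hD hXD hkD h3).2, ?_⟩
    · calc X * k * X * ι * (X * k * X) = X * (k * (X * ι * X) * k) * X := by simp only [mul_assoc]
        _ = ι * (y * ι) := by rw [t1, ← ek, conj_mul2 sX, t1, t2]
        _ = y := by
          rw [(K.Ed_commute hι hy).eq, ← mul_assoc, mul_self hD hι.1, one_mul]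
    · simp only [mul_assoc, cancel sX, cancel (mul_self hD hkD), sX]
  obtain ⟨a1, a2, a3⟩ := key J hJ e1 o1
  obtain ⟨b1, b2, b3⟩ := key β hβ e2 o2
  set s := J * k * J with hsdef
  set t := β * k * β with htdef
  have hinv : (t * s)⁻¹ = s * t := by
    rw [mul_inv_rev, inv_eq_of_mul_eq_one_right a3, inv_eq_of_mul_eq_one_right b3]
  have back : ∀ {z w : G}, t * z * t = w → t * w * t = z := fun {z w} h => by
    rw [← h]; simp only [mul_assoc, cancel b3, b3, mul_one]
  have fixι : Commute (t * s) ι := by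
    show t * s * ι = ι * (t * s)
    rw [← mul_inv_eq_iff_eq_mul, hinv]
    calc t * s * ι * (s * t) = t * (s * ι * s) * t := by simp only [mul_assoc]
      _ = ι := by rw [a1, back b1]
  have hJβ : t * s * J * (t * s)⁻¹ = β := by
    rw [hinv]
    calc t * s * J * (s * t) = t * (s * J * s) * t := by simp only [mul_assoc]
      _ = β := by rw [a2, back b2]
  refine Set.ncard_le_ncard_of_injOn (fun r => t * s * r * (t * s)⁻¹) ?_
    (fun _ _ _ _ h => mul_left_cancel (mul_right_cancel h)) (Set.toFinite _)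
  rintro r ⟨hr, hc⟩
  refine ⟨F.inv ι hι _ fixι r hr, ?_⟩
  rw [← hJβ]
  exact (hc.map (MulAut.conj (t * s)).toMonoidHom)

end Frame

end CfsgLib.RootInvol.Structure
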