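import Cfsg.Agent.Lib.RootSub.Structure.Frame

/-!
# Root involutions, structure theorem: one half of the commutator vanishes
-/

set_option autoImplicit false
set_option linter.unusedSectionVars false

namespace CfsgLib.RootInvol.Structure

open CfsgLib.RootInvol

variable {G : Type*} [Group G]

/-- The splitting of the commutators of `c` into the two halves. -/
structure Split (D : Set G) (d : G) (v b c n : G) : Prop where
  nv : ∀ β ∈ Cfsg.sameCommutingClass D n, ¬ Commute v β
  nb : ∀ β ∈ Cfsg.sameCommutingClass D n, ¬ Commute b β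
  left : ∀ β ∈ Cfsg.sameCommutingClass D n,
    cm (cm v β) b ∈ Cfsg.sameCommutingSubgroup D d
  right : ∀ β ∈ Cfsg.sameCommutingClass D n,
    cm v (cm b β) ∈ Cfsg.sameCommutingSubgroup D d
  prod : ∀ β ∈ Cfsg.sameCommutingClass D n, cm c β = cm (cm v β) b * cm v (cm b β)

namespace Frame

variable {D : Set G} {d : G} {S : Set G} {v b c n e m : G}

variable (K : Ctx D d) (F : Frame D d S v b c n e m)

include K F

theorem split_symm [Finite G] (h : Split D d v b c n) : Split D d b v c n := by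
  have key : ∀ β ∈ Cfsg.sameCommutingClass D n,
      cm (cm b β) v = cm v (cm b β) ∧ cm b (cm v β) = cm (cm v β) b := fun β hβ => by
    have hβW := K.class_W F.n_W hβ
    have hA := K.cm_W F.v_W hβW (h.nv β hβ)
    have hν := K.cm_W F.b_W hβW (h.nb β hβ)
    exact ⟨cm_symm K.root (K.W_D F.v_W) (K.W_D hν) (K.not_odd_W F.v_W hν),
      cm_symm K.root (K.W_D hA) (K.W_D F.b_W) (K.not_odd_W hA F.b_W)⟩
  refine ⟨h.nb, h.nv, fun β hβ => (key β hβ).1 ▸ h.right β hβ,
    fun β hβ => (key β hβ).2 ▸ h.left β hβ, fun β hβ => ?_⟩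
  rw [(key β hβ).1, (key β hβ).2, h.prod β hβ]
  by_cases h1 : cm v (cm b β) = 1
  · rw [h1, one_mul, mul_one]
  · exact (K.E_commute (h.left β hβ) (K.Ed_W (K.mem_Ed (h.right β hβ) h1))).eq.symm

/-- The case of `m b` of order four. -/
theorem left_one_of_four [Finite G] (h : Split D d v b c n) (o : orderOf (m * b) = 4) {β : G}
    (hβ : β ∈ Cfsg.sameCommutingClass D n) : cm (cm v β) b = 1 := by
  have hD := K.root
  have hcD := F.c_D K
  have hbD := K.W_D F.b_W
  have hvD := K.W_D F.v_W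
  have sb := mul_self hD hbD
  have sm := mul_self hD F.m_D
  have sc := mul_self hD hcD
  obtain ⟨cvc, cbc⟩ := F.commute_c K
  obtain ⟨hqD, cmq, cbq, -, ebq, -⟩ := four_facts hD F.m_D hbD o
  have hbcD : c * b ∈ D := by
    obtain ⟨-, -, -, -, e', -⟩ := four_facts hD hvD hbD (K.four_W F.v_W F.b_W F.vb)
    rw [show (v * b) ^ 2 = c from F.c_eq] at e'
    rw [← cbc.eq, e']
    have := hD.conj_mem b hbD v
    rwa [inv_eq hD hvD] at this
  have hp := propagate hD hcD F.m_D hbD F.cm_three cbc.symm hbcD o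
  set q := (m * b) ^ 2 with hqdef
  have hvq : orderOf (v * q) = 3 :=
    braid hD hcD hbD hvD hqD
      ((cm_symm hD hvD hbD (K.not_odd_W F.v_W F.b_W)).trans F.c_eq) hp
  have sq := mul_self hD hqD
  have qconj : ∀ x, q * x * q = m * (b * (m * (b * x * b) * m) * b) * m := fun x => by
    nth_rewrite 2 [show q = (b * m) ^ 2 from (cm_symm_of_four hD F.m_D hbD o).symm]
    rw [hqdef]
    simp only [pow_two, mul_assoc]
  -- the action of `q` on the class of `d`
  have act : ∀ γ ∈ Cfsg.sameCommutingClass D n,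
      Commute (cm b γ) m ∧ q * cm c γ * q = cm c γ * cm b γ := by
    intro γ hγ
    obtain ⟨o', em, cγm, hsγ⟩ := F.fiber K hγ
    have hσ := (F.bij K).1 γ hγ
    have hγW := K.class_W F.n_W hγ
    have hνW := K.cm_W F.b_W hγW (h.nb γ hγ)
    set σ := cm c γ with hσdef
    set ν := cm b γ with hνdef
    obtain ⟨-, -, -, -, eσ, -⟩ := four_facts hD F.m_D hσ.1 o'
    rw [show (m * σ) ^ 2 = γ from em] at eσ
    have bσ : b * σ * b = σ := by
      rw [(K.Ed_commute hσ F.b_W).eq, mul_assoc, sb, mul_one]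
    have bγ : b * γ * b = γ * ν := conj_eq hD hbD hγ.1 (K.not_odd_W F.b_W hγW)
    have mγ : m * γ * m = γ := by rw [cγm.symm.eq, mul_assoc, sm, mul_one]
    have sγ := mul_self hD hγ.1
    have sν := mul_self hD (K.W_D hνW)
    have qσ : q * σ * q = σ * (m * ν * m) := by
      rw [qconj, bσ, ← eσ, conj_mul2 sb, bσ, bγ, conj_mul2 sm, conj_mul2 sm, ← eσ, mγ]
      simp only [mul_assoc, cancel sγ]
    set r := m * ν * m with hrdef
    have sr : r * r = 1 := by
      rw [hrdef]; simp only [mul_assoc, cancel sm, cancel sν, sm]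
    have cσr : Commute σ r := by
      have h1 : σ * r * (σ * r) = 1 := by
        rw [← qσ]; simp only [mul_assoc, cancel sq, cancel (K.class_sq hσ), sq]
      have h2 := eq_inv_of_mul_eq_one_left h1
      rwa [mul_inv_rev, inv_eq_of_mul_eq_one_right sr, inv_eq hD hσ.1] at h2
    set s := c * m * c with hsdef
    have ss : s * s = 1 := by
      rw [hsdef]; simp only [mul_assoc, cancel sm, cancel sc, sc]
    have sbs : s * b * s = q := by
      obtain ⟨-, -, -, -, ecq, -⟩ := four_facts hD hcD hqD (four_of_sq hD hcD hqD hbD hp)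
      rw [hp] at ecq
      have t : c * b * c = b := by rw [cbc.symm.eq, mul_assoc, sc, mul_one]
      calc s * b * s = c * (m * (c * b * c) * m) * c := by rw [hsdef]; simp only [mul_assoc]
        _ = b * (q * b) := by rw [t, ← ebq, conj_mul2 sc, t, ecq]
        _ = q := by rw [← mul_assoc, cbq.eq, mul_assoc, sb, mul_one]
    have sνs : s * ν * s = r := by
      calc s * ν * s = s * b * s * (s * γ * s) * (s * b * s) * (s * γ * s) := by
            rw [hνdef, cm_def]; simp only [mul_assoc, cancel ss]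
        _ = q * σ * q * σ := by rw [sbs, hsγ]
        _ = r := by rw [qσ, cσr.eq, mul_assoc, K.class_sq hσ, mul_one]
    have ccν : Commute c ν := F.c_commute_cm K F.b_W hγ cbc.symm (h.nb γ hγ)
    have cνc : c * ν * c = ν := by rw [ccν.eq, mul_assoc, sc, mul_one]
    have crc : c * r * c = r := by
      have t : c * m * c * ν * (c * m * c) = c * (m * (c * ν * c) * m) * c := by
        simp only [mul_assoc]
      rw [cνc, sνs] at t
      exact t.symm
    have hrν : r = ν := by
      rw [← sνs]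
      calc s * ν * s = m * c * m * ν * (m * c * m) := by
            rw [hsdef, (three_conj hD hcD F.m_D F.cm_three).1]
        _ = m * (c * r * c) * m := by rw [hrdef]; simp only [mul_assoc]
        _ = ν := by rw [crc, hrdef]; simp only [mul_assoc, cancel sm, sm, mul_one]
    refine ⟨?_, by rw [qσ, hrν]⟩
    have h2 : m * (m * ν * m) = m * ν := by rw [← hrdef, hrν]
    rw [mul_assoc m ν m, cancel sm] at h2
    exact h2
  have hσ := (F.bij K).1 β hβ
  have hβW := K.class_W F.n_W hβ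
  have hνW := K.cm_W F.b_W hβW (h.nb β hβ)
  obtain ⟨cνm, qσ⟩ := act β hβ
  set σ := cm c β with hσdef
  set ν := cm b β with hνdef
  set Y := cm v ν with hYdef
  have sν := mul_self hD (K.W_D hνW)
  have vσ : v * σ * v = σ := by
    rw [(K.Ed_commute hσ F.v_W).eq, mul_assoc, mul_self hD hvD, mul_one]
  have vν : v * ν * v = ν * Y := conj_eq hD hvD (K.W_D hνW) (K.not_odd_W F.v_W hνW)
  have cνb : Commute ν b :=
    ((commute_cm hD hbD hβ.1 (K.not_odd_W F.b_W hβW)).1).symm
  have qν : q * ν * q = ν := by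
    have hc : Commute ν q := (cνm.mul_right cνb).pow_right 2
    rw [← hc.eq, mul_assoc, sq, mul_one]
  obtain ⟨hvq3, -⟩ := three_conj hD hvD hqD hvq
  have qY : q * Y * q = ν * Y := by
    have e1 : v * q * v * σ * (v * q * v) = σ * (ν * Y) := by
      calc v * q * v * σ * (v * q * v) = v * (q * (v * σ * v) * q) * v := by
            simp only [mul_assoc]
        _ = σ * (ν * Y) := by rw [vσ, qσ, conj_mul2 (mul_self hD hvD), vσ, vν]
    have e2 : q * v * q * σ * (q * v * q) = σ * (q * Y * q) := by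
      calc q * v * q * σ * (q * v * q) = q * (v * (q * σ * q) * v) * q := by
            simp only [mul_assoc]
        _ = σ * ν * (ν * (q * Y * q)) := by
          rw [qσ, conj_mul2 (mul_self hD hvD), vσ, vν, conj_mul2 sq, conj_mul2 sq, qσ, qν]
        _ = σ * (q * Y * q) := by simp only [mul_assoc, cancel sν]
    rw [hvq3, e2] at e1
    exact mul_left_cancel e1
  have hY1 : Y ≠ 1 := fun hY => by
    rw [hY, mul_one, mul_one, sq] at qY
    exact K.D_ne_one (K.W_D hνW) qY.symm
  have hYE := K.mem_Ed (h.right β hβ) hY1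
  obtain ⟨γ, hγ, eγ⟩ := (F.bij K).2.2 Y hYE
  have h1 := (act γ hγ).2
  rw [eγ, qY, (K.Ed_commute hYE hνW).eq] at h1
  have hγβ : β = γ := F.cm_inj K h.nb hβ hγ (mul_left_cancel h1)
  subst hγβ
  have h2 := h.prod β hβ
  rw [show cm c β = Y from eγ, show cm v (cm b β) = Y from rfl] at h2
  exact mul_eq_right.1 h2.symm

/-- The case of `m b` of odd order: a nontrivial left half is a commutator of `b`. -/
theorem left_eq_cm [Finite G] (h : Split D d v b c n) (hodd : Cfsg.OddAdj D b m) {β : G}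
    (hβ : β ∈ Cfsg.sameCommutingClass D n) (hT : cm (cm v β) b ≠ 1) :
    ∃ γ ∈ Cfsg.sameCommutingClass D n, cm b γ = cm (cm v β) b := by
  have hD := K.root
  have hcD := F.c_D K
  have hbD := K.W_D F.b_W
  have sm := mul_self hD F.m_D
  have sc := mul_self hD hcD
  obtain ⟨cvc, cbc⟩ := F.commute_c K
  obtain ⟨hcm, -⟩ := three_conj hD hcD F.m_D F.cm_three
  have nνm : ∀ γ ∈ Cfsg.sameCommutingClass D n, ¬ Commute (cm b γ) m := by
    intro γ hγ hc
    have hγW := K.class_W F.n_W hγ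
    obtain ⟨hνD, cbν, -, ebν, -, -⟩ :=
      four_facts hD hbD hγ.1 (K.four_W F.b_W hγW (h.nb γ hγ))
    refine forbidden hD hνD ?_ cbν.eq.symm hc.eq hodd
    rw [← cbν.eq, ebν]
    have := hD.conj_mem b hbD γ
    rwa [inv_eq hD hγ.1] at this
  have key : ∀ γ ∈ Cfsg.sameCommutingClass D n,
      ∃ τ ∈ Cfsg.sameCommutingClass D d, Commute (cm b γ * τ) m := by
    intro γ hγ
    obtain ⟨o', em, cγm, hsγ⟩ := F.fiber K hγ
    have hσ := (F.bij K).1 γ hγ
    have hγW := K.class_W F.n_W hγ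
    have hνW := K.cm_W F.b_W hγW (h.nb γ hγ)
    set σ := cm c γ with hσdef
    set ν := cm b γ with hνdef
    have hνD := K.W_D hνW
    obtain ⟨-, -, -, -, eσ, -⟩ := four_facts hD F.m_D hσ.1 o'
    rw [show (m * σ) ^ 2 = γ from em] at eσ
    obtain ⟨-, -, cγν, -, eγν, -⟩ := four_facts hD hbD hγ.1 (K.four_W F.b_W hγW (h.nb γ hγ))
    have hno : ¬ Cfsg.OddAdj D ν m := fun ho => by
      refine forbidden hD hγ.1 ?_ cγν.eq cγm.eq ho
      rw [show γ * ν = b * γ * b from eγν]
      have := hD.conj_mem γ hγ.1 b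
      rwa [inv_eq hD hbD] at this
    have o1 : orderOf (m * ν) = 4 := by
      rw [orderOf_mul_comm hD hνD F.m_D]
      exact four_of hD hνD F.m_D (nνm γ hγ) hno
    obtain ⟨hβD, cmβ, cνβ, -, eνβ, -⟩ := four_facts hD F.m_D hνD o1
    set β₀ := (m * ν) ^ 2 with hβ₀def
    have cνσ : Commute ν σ := K.Ed_commute hσ hνW
    have cmc : Commute γ m := cγm
    have mγ : m * γ * m = γ := by rw [cγm.symm.eq, mul_assoc, sm, mul_one]
    have νσ : ν * σ * ν = σ := by rw [cνσ.eq, mul_assoc, mul_self hD hνD, mul_one]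
    have νγ : ν * γ * ν = γ := by rw [← cγν.eq, mul_assoc, mul_self hD hνD, mul_one]
    have hβσ : Commute β₀ σ := by
      have t : β₀ * σ * β₀⁻¹ = σ := by
        rw [inv_eq hD hβD]
        nth_rewrite 2 [show β₀ = (ν * m) ^ 2 from (cm_symm_of_four hD F.m_D hνD o1).symm]
        rw [hβ₀def]
        calc (m * ν) ^ 2 * σ * (ν * m) ^ 2 = m * (ν * (m * (ν * σ * ν) * m) * ν) * m := by
              simp only [pow_two, mul_assoc]
          _ = σ := by
            rw [νσ, ← eσ, conj_mul2 (mul_self hD hνD), νσ, νγ, conj_mul2 sm, ← eσ, mγ,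
              mul_assoc, mul_self hD hγ.1, mul_one]
      rwa [mul_inv_eq_iff_eq_mul] at t
    set s := c * m * c with hsdef
    have ss : s * s = 1 := by
      rw [hsdef]; simp only [mul_assoc, cancel sm, cancel sc, sc]
    have hsinv : s⁻¹ = s := inv_eq_of_mul_eq_one_right ss
    have ccν : Commute c ν := F.c_commute_cm K F.b_W hγ cbc.symm (h.nb γ hγ)
    have cνc : c * ν * c = ν := by rw [ccν.eq, mul_assoc, sc, mul_one]
    have sνs : s * ν * s = c * (m * ν * m) * c := by
      calc s * ν * s = c * (m * (c * ν * c) * m) * c := by rw [hsdef]; simp only [mul_assoc]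
        _ = c * (m * ν * m) * c := by rw [cνc]
    have hiW : s * ν * s ∈ Wset D d := by
      have e1 : (s * b * s * σ) ^ 2 = s * ν * s := by
        rw [← hsγ, hνdef, cm_def, pow_two]
        simp only [mul_assoc, cancel ss]
      have hbsD : s * b * s ∈ D := by
        have := hD.conj_mem b hbD s
        rwa [hsinv] at this
      have hisD : s * ν * s ∈ D := by
        have := hD.conj_mem ν hνD s
        rwa [hsinv] at this
      have := sq_mem_productPartners hD hbsD hσ.1 (four_of_sq hD hbsD hσ.1 hisD e1)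
      rw [e1] at this
      exact K.partner_W hσ this
    have hβP : β₀ ∈ Pgrp D d := by
      have e1 : β₀ = ν * (c * (s * ν * s) * c) := by
        rw [sνs, ← eνβ]; simp only [mul_assoc, cancel sc, sc, mul_one,
          cancel (mul_self hD hνD)]
      rw [e1]
      exact mul_mem (Subgroup.subset_closure hνW)
        (mul_mem (mul_mem (Subgroup.subset_closure (F.c_W K)) (Subgroup.subset_closure hiW))
          (Subgroup.subset_closure (F.c_W K)))
    have hβW := K.mem_W_of_mem_P hβD hβP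
    set τ := cm c β₀ with hτdef
    have hτE : τ ∈ Cfsg.sameCommutingSubgroup D d := F.step c F.c_S _ hβW
    have ecβ : c * β₀ * c = β₀ * τ := conj_eq hD hcD hβD (K.not_odd_W (F.c_W K) hβW)
    have hfix : m * (ν * (β₀ * τ)) * m = ν * (β₀ * τ) := by
      have e1 : s * ν * s = ν * (β₀ * τ) := by rw [sνs, ← eνβ, conj_mul2 sc, cνc, ecβ]
      rw [← e1]
      calc m * (s * ν * s) * m = m * (c * (m * ν * m) * c) * m := by rw [sνs]
        _ = m * c * m * ν * (m * c * m) := by simp only [mul_assoc]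
        _ = s * ν * s := by rw [← hcm]
    have mτ : m * τ * m = β₀ * τ := by
      have mβ : m * β₀ * m = β₀ := by rw [cmβ.eq, mul_assoc, sm, mul_one]
      rw [conj_mul2 sm, conj_mul2 sm, mβ, ← eνβ, mul_assoc ν β₀,
        cancel (mul_self hD hβD)] at hfix
      exact mul_left_cancel hfix
    have hτ1 : τ ≠ 1 := fun h1 => by
      rw [h1, mul_one, sm, mul_one] at mτ
      exact K.D_ne_one hβD mτ.symm
    refine ⟨τ, K.mem_Ed hτE hτ1, ?_⟩
    have t : m * (ν * τ) * m = ν * τ := by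
      rw [conj_mul2 sm, mτ, ← eνβ, mul_assoc ν β₀, cancel (mul_self hD hβD)]
    have t2 : m * (m * (ν * τ) * m) = m * (ν * τ) := by rw [t]
    rw [mul_assoc m (ν * τ) m, cancel sm] at t2
    exact t2
  choose τ hτ cτ using key
  -- the map is onto the class of `d`
  have hsurj : ∀ σ ∈ Cfsg.sameCommutingClass D d, ∃ γ, ∃ hγ : γ ∈ Cfsg.sameCommutingClass D n,
      τ γ hγ = σ := by
    have hinj : ∀ γ hγ γ' hγ', τ γ hγ = τ γ' hγ' → γ = γ' := by
      intro γ hγ γ' hγ' he
      by_contra hne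
      have hn := K.W_D F.n_W
      refine nνm _ (mul_mem_class hD K.classes hn hγ hγ' hne) ?_
      have hγW := K.class_W F.n_W hγ
      have hγW' := K.class_W F.n_W hγ'
      have hν' := K.cm_W F.b_W hγW' (h.nb γ' hγ')
      have c2 : Commute (cm b γ') γ :=
        commute_class (class_trans hγ' hγ) (K.W_D hν')
          (commute_cm hD hbD hγ'.1 (K.not_odd_W F.b_W hγW')).2.symm
      have e : cm b (γ * γ') = cm b γ * τ γ hγ * (cm b γ' * τ γ' hγ') := by
        rw [cm_mul (mul_self hD hbD) (mul_self hD hγ.1)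
          (commute_class (class_trans hγ hγ') hγ.1 (Commute.refl γ)),
          show γ * cm b γ' * γ = cm b γ' by
            rw [← c2.eq, mul_assoc, mul_self hD hγ.1, mul_one],
          ← he, mul_assoc, ← mul_assoc (τ γ hγ), ← (K.Ed_commute (hτ γ hγ) hν').eq,
          mul_assoc (cm b γ'), K.class_sq (hτ γ hγ), mul_one]
      rw [e]
      exact (cτ γ hγ).mul_left (cτ γ' hγ')
    intro σ hσ
    let f : Cfsg.sameCommutingClass D n → Cfsg.sameCommutingClass D d :=
      fun γ => ⟨τ γ γ.2, hτ γ γ.2⟩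
    have hf : Function.Bijective f := (Nat.bijective_iff_injective_and_card f).2
      ⟨fun γ γ' he => Subtype.ext (hinj _ _ _ _ (congrArg Subtype.val he)), by
        rw [Nat.card_coe_set_eq, Nat.card_coe_set_eq, ncard_class K.cls (K.W_D F.n_W) K.mem]⟩
    obtain ⟨γ, hγ⟩ := hf.2 ⟨σ, hσ⟩
    exact ⟨γ, γ.2, congrArg Subtype.val hγ⟩
  have hA := K.cm_W F.v_W (K.class_W F.n_W hβ) (h.nv β hβ)
  set A := cm v β with hAdef
  have ht := K.mem_Ed (h.left β hβ) hT
  have hAb : ¬ Commute A b := fun hc => hT (cm_eq_one_of_commute hD (K.W_D hA) hbD hc)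
  obtain ⟨-, -, cbt, -, ebt, -⟩ := four_facts hD (K.W_D hA) hbD (K.four_W hA F.b_W hAb)
  set t := cm A b with htdef
  have hbtD : b * t ∈ D := by
    rw [show b * t = A * b * A from ebt]
    have := hD.conj_mem b hbD A
    rwa [inv_eq hD (K.W_D hA)] at this
  obtain ⟨γ, hγ, hτt⟩ := hsurj t ht
  refine ⟨γ, hγ, ?_⟩
  by_contra hne
  have hγW := K.class_W F.n_W hγ
  have hνW := K.cm_W F.b_W hγW (h.nb γ hγ)
  obtain ⟨-, cbν, -, ebν, -, -⟩ := four_facts hD hbD hγ.1 (K.four_W F.b_W hγW (h.nb γ hγ))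
  set ν := cm b γ with hνdef
  have cνt : Commute ν t := K.Ed_commute ht hνW
  have hc := cτ γ hγ
  rw [hτt] at hc
  refine forbidden' hD (α := ν * t) (β := b) (y := m) ?_ ?_ ?_ (cbν.symm.mul_left cbt.symm) hc hodd
  · nth_rewrite 1 [cνt.eq]; rw [mul_assoc t ν, cancel (mul_self hD (K.W_D hνW)), K.class_sq ht]
  · intro h1
    exact hne ((eq_inv_of_mul_eq_one_left h1).trans (inv_eq hD ht.1))
  · have e1 : γ * (b * t) * γ = ν * t * b := by
      have cγt : Commute γ t := K.Ed_commute ht hγW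
      rw [conj_mul2 (mul_self hD hγ.1), ← ebν, cγt.eq, mul_assoc t γ, mul_self hD hγ.1, mul_one,
        cbν.eq, mul_assoc, cbt.eq, ← mul_assoc]
    rw [← e1]
    have := hD.conj_mem _ hbtD γ
    rwa [inv_eq hD hγ.1] at this

/-- The left half is trivial. -/
theorem left_one [Finite G] (h : Split D d v b c n) {β : G}
    (hβ : β ∈ Cfsg.sameCommutingClass D n) : cm (cm v β) b = 1 := by
  have hD := K.root
  have hbD := K.W_D F.b_W
  have hcD := F.c_D K
  obtain ⟨cvc, cbc⟩ := F.commute_c K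
  by_cases hbm : Commute b m
  · exfalso
    obtain ⟨-, -, -, -, e', -⟩ :=
      four_facts hD (K.W_D F.v_W) hbD (K.four_W F.v_W F.b_W F.vb)
    rw [show (v * b) ^ 2 = c from F.c_eq] at e'
    refine forbidden hD hbD ?_ cbc.eq hbm.eq (oddAdj_of_three hD hcD F.m_D F.cm_three)
    rw [e']
    have := hD.conj_mem b hbD v
    rwa [inv_eq hD (K.W_D F.v_W)] at this
  by_cases hodd : Cfsg.OddAdj D b m
  swap
  · exact F.left_one_of_four K h
      (by rw [orderOf_mul_comm hD hbD F.m_D]; exact four_of hD hbD F.m_D hbm hodd) hβ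
  by_contra hT
  set I := {γ | γ ∈ Cfsg.sameCommutingClass D n ∧ cm b γ ∈ Cfsg.sameCommutingClass D d} with hI
  obtain ⟨hQ, hQinj, -⟩ := F.bij K
  have hright : ∀ γ ∈ I, cm (cm v γ) b = cm c γ := fun γ hγ => by
    rw [h.prod γ hγ.1, cm_eq_one_of_commute hD (K.W_D F.v_W) hγ.2.1 (K.Ed_commute hγ.2 F.v_W),
      mul_one]
  have hle : cm c '' I ⊆ cm b '' I := by
    rintro _ ⟨γ, hγ, rfl⟩
    have h1 : cm (cm v γ) b ≠ 1 := by rw [hright γ hγ]; exact K.class_ne_one (hQ γ hγ.1)
    obtain ⟨γ', hγ', e⟩ := F.left_eq_cm K h hodd hγ.1 h1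
    rw [hright γ hγ] at e
    exact ⟨γ', ⟨hγ', e ▸ hQ γ hγ.1⟩, e⟩
  have heq := Set.eq_of_subset_of_ncard_le hle (by
    rw [Set.InjOn.ncard_image (fun γ hγ γ' hγ' he => F.cm_inj K h.nb hγ.1 hγ'.1 he),
      Set.InjOn.ncard_image (fun γ hγ γ' hγ' he => hQinj γ hγ.1 γ' hγ'.1 he)]) (Set.toFinite _)
  obtain ⟨γ, hγ, eγ⟩ := F.left_eq_cm K h hodd hβ hT
  have hγI : γ ∈ I := ⟨hγ, eγ.symm ▸ K.mem_Ed (h.left β hβ) hT⟩
  obtain ⟨γ', hγ', eγ'⟩ : cm b γ ∈ cm c '' I := heq.symm ▸ ⟨γ, hγI, rfl⟩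
  have hγW := K.class_W F.n_W hγ
  have hγW' := K.class_W F.n_W hγ'.1
  have hJ := K.cm_W F.v_W hγW' (h.nv γ' hγ'.1)
  have e1 : cm (cm v γ') b = cm b γ := (hright γ' hγ').trans eγ'
  have e2 : cm γ b = cm b γ := cm_symm hD hbD hγ.1 (K.not_odd_W F.b_W hγW)
  have hcard := F.ncard_le K hJ hγW F.b_W hγI.2 e1 e2
  set J := cm v γ' with hJdef
  have hJD := K.W_D hJ
  have hsame : ∀ r ∈ S, Commute r γ → Commute r γ' := fun r hr hc =>
    commute_class (class_trans hγ hγ'.1) (K.W_D (F.sub hr)) hc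
  have hsame' : ∀ r ∈ S, Commute r γ' → Commute r γ := fun r hr hc =>
    commute_class (class_trans hγ'.1 hγ) (K.W_D (F.sub hr)) hc
  have hlt : {r | r ∈ S ∧ Commute r γ}.ncard < {r | r ∈ S ∧ Commute r J}.ncard := by
    refine Set.ncard_lt_ncard ⟨fun r hr => ⟨hr.1, ?_⟩, fun hsub => ?_⟩ (Set.toFinite _)
    · by_contra hnc
      have hrW := F.sub hr.1
      refine K.lemma1 F.v_W hγW' hrW (h.nv γ' hγ'.1) (hsame r hr.1 hr.2) ?_
      rw [cm_symm hD (K.W_D hrW) hJD (K.not_odd_W hrW hJ)]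
      exact K.mem_Ed (F.step r hr.1 _ hJ) (K.cm_ne_one (K.W_D hrW) hJD hnc)
    · have hcJ : Commute c J := F.c_commute_cm K F.v_W hγ'.1 cvc.symm (h.nv γ' hγ'.1)
      exact F.cn (commute_class' hγ hcD (hsub ⟨F.c_S, hcJ⟩).2)
  omega

end Frame

end CfsgLib.RootInvol.Structure
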