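import Cfsg.Agent.Lib.RootSub.Structure.Half

/-!
# Root involutions: the structure theorem
-/

set_option autoImplicit false
set_option linter.unusedSectionVars false

namespace CfsgLib.RootInvol.Structure

open CfsgLib.RootInvol
open scoped commutatorElement

variable {G : Type*} [Group G]

namespace Ctx

variable {D : Set G} {d : G} (K : Ctx D d)

include K

/-- One step of the induction along the lower central series. -/
theorem deep_step [Finite G] {k : ℕ}
    (IH : ∀ r ∈ Deep D d (k + 1), ∀ y ∈ Wset D d,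
      cm r y ∈ Cfsg.sameCommutingSubgroup D d) :
    ∀ v ∈ Deep D d k, ∀ b ∈ Wset D d, cm v b ∈ Cfsg.sameCommutingSubgroup D d := by
  intro v hv b hb
  have hD := K.root
  by_contra hcE
  have hvW := hv.1
  have hvb : ¬ Commute v b := fun h => hcE (by
    rw [cm_eq_one_of_commute hD (K.W_D hvW) (K.W_D hb) h]; exact one_mem _)
  have hcS := K.cm_deep hv hb hvb
  set c := cm v b with hcdef
  have hc := hcS.1
  obtain ⟨n, hnR, hncn⟩ := K.central hc fun h => hcE (Subgroup.subset_closure h)
  have hn := K.partner_W ⟨K.mem, rfl⟩ hnR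
  have hcn : ¬ Commute c n := fun h => hncn h.symm
  have hcD := K.W_D hc
  have hnD := K.W_D hn
  set e := cm c n with hedef
  have he := K.mem_Ed (IH c hcS n hn) (K.cm_ne_one hcD hnD hcn)
  have hne : n ∈ Cfsg.productPartners D e :=
    mem_productPartners_symm hnD (sq_mem_productPartners hD hcD hnD (K.four_W hc hn hcn))
  have hnot : n ∉ Cfsg.sameCommutingClass D e := fun h =>
    hcn (commute_class h hcD (K.Ed_commute he hc))
  obtain ⟨m, hm, -, -, hme, o4, hbraid⟩ := mate hD K.oddConn he.1 hne hnot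
  have F : Frame D d (Deep D d (k + 1)) v b c n e m :=
    { sub := fun _ h => h.1
      step := IH
      inv := fun σ hσ g hg r hr => K.deep_conj hσ hg hr
      v_W := hvW
      b_W := hb
      vb := hvb
      c_eq := rfl
      c_S := hcS
      n_W := hn
      cn := hcn
      e_eq := rfl
      e_class := he
      m_D := hm
      m_four := o4
      m_eq := hme
      cm_three := hbraid c hcD (cm_symm hD hcD hnD (K.not_odd_W hc hn)) }
  obtain ⟨hQ, -, -⟩ := F.bij K
  have hsymm : cm b v = c := cm_symm hD (K.W_D hvW) (K.W_D hb) (K.not_odd_W hvW hb)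
  have nb : ∀ β ∈ Cfsg.sameCommutingClass D n, ¬ Commute b β := fun β hβ h =>
    K.lemma1 hvW hb (K.class_W hn hβ) hvb h.symm (hQ β hβ)
  have nv : ∀ β ∈ Cfsg.sameCommutingClass D n, ¬ Commute v β := fun β hβ h =>
    K.lemma1 hb hvW (K.class_W hn hβ) (fun hh => hvb hh.symm) h.symm
      (by rw [hsymm]; exact hQ β hβ)
  have main : ∀ β ∈ Cfsg.sameCommutingClass D n,
      cm (cm v β) b ∈ Cfsg.sameCommutingSubgroup D d ∧
      cm v (cm b β) = cm (cm v β) b * cm c β := by
    intro β hβ
    have hβW := K.class_W hn hβ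
    have hAS := K.cm_deep hv hβW (nv β hβ)
    have hνW := K.cm_W hb hβW (nb β hβ)
    set A := cm v β with hAdef
    set ν := cm b β with hνdef
    have hTE := IH A hAS b hb
    have hfE := IH A hAS ν hνW
    refine ⟨hTE, ?_⟩
    have hvD := K.W_D hvW
    have hbD := K.W_D hb
    have hAD := K.W_D hAS.1
    have hνD := K.W_D hνW
    have sA := mul_self hD hAD
    have sν := mul_self hD hνD
    have sβ := mul_self hD hβ.1
    have sb := mul_self hD hbD
    obtain ⟨cvA, cβA⟩ := commute_cm hD hvD hβ.1 (K.not_odd_W hvW hβW)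
    obtain ⟨cbν, cβν⟩ := commute_cm hD hbD hβ.1 (K.not_odd_W hb hβW)
    have βAβ : β * A * β = A := by rw [cβA.eq, mul_assoc, sβ, mul_one]
    have βbβ : β * b * β = b * ν := by
      rw [conj_eq hD hβ.1 hbD (K.not_odd_W hβW hb), cm_symm hD hbD hβ.1 (K.not_odd_W hb hβW)]
    have βvβ : β * v * β = v * A := by
      rw [conj_eq hD hβ.1 hvD (K.not_odd_W hβW hvW), cm_symm hD hvD hβ.1 (K.not_odd_W hvW hβW)]
    set T := cm A b with hTdef
    set f := cm A ν with hfdef
    set Y := cm v ν with hYdef
    have AνA : A * ν * A = ν * f := conj_eq hD hAD hνD (K.not_odd_W hAS.1 hνW)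
    have AbA : A * b * A = b * T := conj_eq hD hAD hbD (K.not_odd_W hAS.1 hb)
    have νvν : ν * v * ν = v * Y := by
      rw [conj_eq hD hνD hvD (K.not_odd_W hνW hvW), cm_symm hD hvD hνD (K.not_odd_W hvW hνW)]
    -- `A` commutes with `ν`
    have hf1 : f = 1 := by
      have e1 : β * T * β = T := by
        rw [K.E_commute hTE hβW |>.eq, mul_assoc, sβ, mul_one]
      have e2 : β * T * β = cm A (b * ν) := by
        have := conj_cm β A b
        rwa [inv_eq hD hβ.1, βAβ, βbβ] at this
      have e3 : cm A (b * ν) = cm A b * (b * cm A ν * b) := cm_mul sA sb cbν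
      rw [show b * cm A ν * b = f by
        rw [(K.E_commute hfE hb).eq, mul_assoc, sb, mul_one]] at e3
      rw [← e2, e1] at e3
      exact mul_eq_left.1 e3.symm
    have cAν : Commute A ν := commute_of_cm_eq_one hD hAD hνD hf1
    have hc1 : β * c * β = c * cm c β := by
      rw [conj_eq hD hβ.1 hcD (K.not_odd_W hβW hc), cm_symm hD hcD hβ.1 (K.not_odd_W hc hβW)]
    have hc2 : β * c * β = cm (v * A) (b * ν) := by
      have := conj_cm β v b
      rw [inv_eq hD hβ.1, βvβ, βbβ] at this
      exact this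
    have hTv : Commute v T := K.E_commute hTE hvW
    have hTb : Commute b T := K.E_commute hTE hb
    have hTν : Commute ν T := K.E_commute hTE hνW
    have hswap : ∀ z, ν * (v * (A * z)) = A * (ν * (v * z)) := fun z => by
      rw [← mul_assoc v A, cvA.eq, mul_assoc A v, ← mul_assoc ν A, ← cAν.eq, mul_assoc A ν]
    have hc3 : cm (v * A) (b * ν) = T * (v * b * v * Y * b) := by
      calc cm (v * A) (b * ν) = v * (A * (b * (ν * (v * (A * (b * ν)))))) := by
            simp only [cm_def, mul_assoc]
        _ = v * (A * (b * (A * (ν * (v * (b * ν)))))) := by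
            rw [hswap]
        _ = v * (A * b * A) * (ν * v * ν) * b := by
            simp only [mul_assoc]; rw [show b * ν = ν * b from cbν]
        _ = T * (v * b * v * Y * b) := by
            rw [AbA, νvν, hTb.eq, ← mul_assoc v T, hTv.eq]
            simp only [mul_assoc]
    have hQE := hQ β hβ
    set Q := cm c β with hQdef
    have key : Y * b = T * Q * b := by
      have e1 : c * Q = T * (v * b * v * Y * b) := by rw [← hc1, hc2, hc3]
      have e2 : v * b * v * (Y * b) = v * b * v * (T * Q * b) := by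
        have hTc : Commute c T := K.E_commute hTE hc
        have e3 : c * (T * Q) = v * b * v * Y * b := by
          rw [← mul_assoc, hTc.eq, mul_assoc, e1, cancel (K.E_sq hTE)]
        have cbTQ : Commute b (T * Q) := hTb.mul_right (K.Ed_commute hQE hb)
        rw [← mul_assoc, ← e3, hcdef, cm_def]
        simp only [mul_assoc]
        rw [← mul_assoc T Q b, ← cbTQ.eq]
      exact mul_left_cancel e2
    exact mul_right_cancel key
  have h : Split D d v b c n :=
    { nv := nv
      nb := nb
      left := fun β hβ => (main β hβ).1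
      right := fun β hβ => (main β hβ).2 ▸
        mul_mem (main β hβ).1 (Subgroup.subset_closure (hQ β hβ))
      prod := fun β hβ => by
        rw [(main β hβ).2, ← mul_assoc, K.E_sq (main β hβ).1, one_mul] }
  have hnn : n ∈ Cfsg.sameCommutingClass D n := ⟨hnD, rfl⟩
  have h1 := F.left_one K h hnn
  have h2 := (Frame.symm K F).left_one K (F.split_symm K h) hnn
  have hA := K.cm_W hvW hn (nv n hnn)
  have hν := K.cm_W hb hn (nb n hnn)
  rw [cm_symm hD (K.W_D hvW) (K.W_D hν) (K.not_odd_W hvW hν)] at h2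
  have h3 := h.prod n hnn
  rw [h1, h2, one_mul] at h3
  exact K.class_ne_one he h3

/-- The commutator of two isolated members lies in the subgroup of the class. -/
theorem cm_mem [Finite G] {v b : G} (hv : v ∈ Wset D d) (hb : b ∈ Wset D d) :
    cm v b ∈ Cfsg.sameCommutingSubgroup D d := by
  have : Fact (Nat.Prime 2) := ⟨Nat.prime_two⟩
  have := K.isPGroup_P.isNilpotent
  obtain ⟨N, hN⟩ :=
    (Subgroup.isNilpotent_iff_lowerCentralSeries (S := Pgrp D d)).1 inferInstance
  have main : ∀ j k, k + j = N →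
      ∀ r ∈ Deep D d k, ∀ y ∈ Wset D d, cm r y ∈ Cfsg.sameCommutingSubgroup D d := by
    intro j
    induction j with
    | zero =>
      rintro k rfl r hr
      rw [add_zero] at hN
      have h1 := hr.2
      rw [hN, Subgroup.mem_bot] at h1
      exact absurd h1 (K.D_ne_one (K.W_D hr.1))
    | succ j ih =>
      intro k hk
      exact K.deep_step (ih (k + 1) (by omega))
  exact main N 0 (zero_add N) v ⟨hv, Subgroup.subset_closure hv⟩ b hb

theorem W_eq [Finite G] : Wset D d = Cfsg.productPartners D d ∪ {d} := by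
  have hD := K.root
  refine Set.Subset.antisymm (fun w hw => ?_) ?_
  · by_cases hwd : w = d
    · exact Or.inr hwd
    left
    have hwD := K.W_D hw
    have hc : w * d = d * w := K.W_commute hw
    refine ⟨⟨hwD, hc, hwd⟩, ?_⟩
    by_cases hwE : w ∈ Cfsg.sameCommutingClass D d
    · exact (mul_mem_class hD K.classes K.mem hwE ⟨K.mem, rfl⟩ hwd).1
    obtain ⟨r, hr, hrw⟩ := K.central hw hwE
    have hrW := K.partner_W ⟨K.mem, rfl⟩ hr
    obtain ⟨-, -, hsurj⟩ := K.cm_class hw hrW (fun h => hrw h.symm)
      fun β hβ => K.cm_mem hw (K.class_W hrW hβ)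
    obtain ⟨β, hβ, e⟩ := hsurj d ⟨K.mem, rfl⟩
    have o := four_of_sq hD hwD hβ.1 K.mem e
    obtain ⟨-, -, -, e', -, -⟩ := four_facts hD hwD hβ.1 o
    rw [show (w * β) ^ 2 = d from e] at e'
    rw [e']
    have := hD.conj_mem w hwD β
    rwa [inv_eq hD hβ.1] at this
  · rintro w (hw | rfl)
    · exact K.partner_W ⟨K.mem, rfl⟩ hw
    · exact K.self_W

theorem commutator_mem [Finite G] {x y : G} (hx : x ∈ Pgrp D d) (hy : y ∈ Pgrp D d) :
    ⁅x, y⁆ ∈ Cfsg.sameCommutingSubgroup D d := by
  have hD := K.root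
  have cen : ∀ {z g : G}, z ∈ Cfsg.sameCommutingSubgroup D d → g ∈ Pgrp D d →
      g * z * g⁻¹ = z := by
    intro z g hz hg
    have : Commute g z := by
      induction hg using Subgroup.closure_induction with
      | mem w hw => exact K.E_commute hz hw
      | one => exact Commute.one_left z
      | mul a b _ _ ha hb => exact ha.mul_left hb
      | inv a _ ha => exact ha.inv_left
    rw [this.eq, mul_inv_cancel_right]
  have step1 : ∀ b ∈ Wset D d, ∀ x ∈ Pgrp D d,
      ⁅x, b⁆ ∈ Cfsg.sameCommutingSubgroup D d := by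
    intro b hb x hx
    induction hx using Subgroup.closure_induction with
    | mem w hw =>
      rw [commutatorElement_def, inv_eq hD (K.W_D hw), inv_eq hD (K.W_D hb), ← cm_def]
      exact K.cm_mem hw hb
    | one => rw [commutatorElement_one_left]; exact one_mem _
    | mul a c ha _ iha ihc =>
      rw [show ⁅a * c, b⁆ = a * ⁅c, b⁆ * a⁻¹ * ⁅a, b⁆ by
        simp only [commutatorElement_def]; group, cen ihc ha]
      exact mul_mem ihc iha
    | inv a ha iha =>
      rw [show ⁅a⁻¹, b⁆ = a⁻¹ * ⁅a, b⁆⁻¹ * a⁻¹⁻¹ by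
        simp only [commutatorElement_def]; group, cen (inv_mem iha) (inv_mem ha)]
      exact inv_mem iha
  induction hy using Subgroup.closure_induction with
  | mem w hw => exact step1 w hw x hx
  | one => rw [commutatorElement_one_right]; exact one_mem _
  | mul a c ha _ iha ihc =>
    rw [show ⁅x, a * c⁆ = ⁅x, a⁆ * (a * ⁅x, c⁆ * a⁻¹) by
      simp only [commutatorElement_def]; group, cen ihc ha]
    exact mul_mem iha ihc
  | inv a ha iha =>
    rw [show ⁅x, a⁻¹⁆ = a⁻¹ * ⁅x, a⁆⁻¹ * a⁻¹⁻¹ by
      simp only [commutatorElement_def]; group, cen (inv_mem iha) (inv_mem ha)]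
    exact inv_mem iha

/-- Two product partners that do not commute exist. -/
theorem exists_pair [Finite G] : ∃ w ∈ Wset D d, ∃ r ∈ Wset D d, ¬ Commute w r := by
  have hD := K.root
  obtain ⟨a, ha, b, hb, h4⟩ := K.nd.2.2.2
  obtain ⟨hc, -, -, -, -, -⟩ := four_facts hD ha hb h4
  obtain ⟨g, hg⟩ := K.cls.2.2 _ hc d K.mem
  have ha' := hD.conj_mem a ha g
  have hb' := hD.conj_mem b hb g
  have e : (g * a * g⁻¹ * (g * b * g⁻¹)) ^ 2 = d := by rw [hg]; exact (conj_cm g a b).symm
  have o := four_of_sq hD ha' hb' K.mem e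
  have o' : orderOf (g * b * g⁻¹ * (g * a * g⁻¹)) = 4 := by
    rw [orderOf_mul_comm hD ha' hb']; exact o
  have h1 := sq_mem_productPartners hD ha' hb' o
  have h2 := sq_mem_productPartners hD hb' ha' o'
  rw [e] at h1
  rw [show (g * b * g⁻¹ * (g * a * g⁻¹)) ^ 2 = d from (cm_symm_of_four hD ha' hb' o).trans e] at h2
  exact ⟨_, K.partner_W ⟨K.mem, rfl⟩ (mem_productPartners_symm ha' h2),
    _, K.partner_W ⟨K.mem, rfl⟩ (mem_productPartners_symm hb' h1),
    not_commute_of_four hD ha' hb' o⟩

theorem commutator_eq [Finite G] :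
    ⁅Pgrp D d, Pgrp D d⁆ = Cfsg.sameCommutingSubgroup D d := by
  refine le_antisymm (Subgroup.commutator_le.2 fun x hx y hy => K.commutator_mem hx hy) ?_
  rw [Cfsg.sameCommutingSubgroup, Subgroup.closure_le]
  intro σ hσ
  obtain ⟨w, hw, r, hr, hnc⟩ := K.exists_pair
  obtain ⟨-, -, hsurj⟩ := K.cm_class hw hr hnc fun β hβ => K.cm_mem hw (K.class_W hr hβ)
  obtain ⟨β, hβ, rfl⟩ := hsurj σ hσ
  have := Subgroup.commutator_mem_commutator (H₁ := Pgrp D d) (H₂ := Pgrp D d)
    (Subgroup.subset_closure hw) (Subgroup.subset_closure (K.class_W hr hβ))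
  rwa [commutatorElement_def, inv_eq K.root (K.W_D hw), inv_eq K.root hβ.1, ← cm_def] at this

theorem class_eq [Finite G] : Cfsg.sameCommutingClass D d =
    {e | e ∈ D ∧ e ∈ Pgrp D d ∧ ∀ y ∈ Pgrp D d, e * y = y * e} := by
  ext e
  constructor
  · intro he
    refine ⟨he.1, Subgroup.subset_closure (K.Ed_W he), fun y hy => ?_⟩
    induction hy using Subgroup.closure_induction with
    | mem w hw => exact (K.Ed_commute he hw).eq.symm
    | one => simp
    | mul a b _ _ ha hb => exact ((show Commute e a from ha).mul_right hb).eq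
    | inv a _ ha => exact ((show Commute e a from ha).inv_right).eq
  · rintro ⟨heD, heP, hcen⟩
    by_contra hn
    obtain ⟨r, hr, hrc⟩ := K.central (K.mem_W_of_mem_P heD heP) hn
    exact hrc (hcen r (Subgroup.subset_closure (K.partner_W ⟨K.mem, rfl⟩ hr))).symm

end Ctx

end CfsgLib.RootInvol.Structure
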