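import Cfsg.Agent.Lib.RootSub.Structure.Basic
import Cfsg.Agent.Lib.RootSub.Blocks.Closure
import Cfsg.Agent.Lib.RootSub.Blocks.Main
import Cfsg.Agent.Lib.RootSub.Blocks.Reduction

/-!
# Root involutions, structure theorem: the isolated members of a centralizer
-/

set_option autoImplicit false

namespace CfsgLib.RootInvol.Structure

open CfsgLib.RootInvol

variable {G : Type*} [Group G]

/-- The hypotheses of the structure theorem. -/
structure Ctx (D : Set G) (d : G) : Prop where
  nd : Cfsg.IsNondegenerateRootInvolutionSet D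
  cls : Cfsg.IsRootInvolutionClass D
  center : Subgroup.center G = ⊥
  classes : ∀ e ∈ D,
    (Cfsg.sameCommutingSubgroup D e : Set G) = Cfsg.sameCommutingClass D e ∪ {1}
  mem : d ∈ D

/-- The isolated members among those commuting with `d`. -/
def Wset (D : Set G) (d : G) : Set G :=
  {w | Cfsg.IsIsolatedElem (Cfsg.OddAdj (Cfsg.commutingMembers D d)) (Cfsg.commutingMembers D d) w}

/-- The group they generate. -/
def Pgrp (D : Set G) (d : G) : Subgroup G := Subgroup.closure (Wset D d)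

/-- The isolated members lying in a term of the lower central series. -/
def Deep (D : Set G) (d : G) (k : ℕ) : Set G :=
  {r | r ∈ Wset D d ∧ r ∈ (Pgrp D d).lowerCentralSeries k}

namespace Ctx

variable {D : Set G} {d : G} (K : Ctx D d)

include K

theorem root : Cfsg.IsRootInvolutionSet D := K.nd.1

theorem prodConn [Finite G] : Cfsg.IsConnectedSet (Cfsg.ProdAdj D) D :=
  CfsgLib.RootInvol.prodAdj_connected' (fun _ _ _ _ _ hB _ ha _ hb h => hB.commute_of_rel ha hb h) K.nd K.cls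

theorem oddConn [Finite G] : Cfsg.IsConnectedSet (Cfsg.OddAdj D) D :=
  oddAdj_connected K.nd K.cls K.prodConn

theorem mem_W {w : G} : w ∈ Wset D d ↔
    w ∈ D ∧ Commute w d ∧ ∀ y ∈ D, Commute y d → ¬ Cfsg.OddAdj D w y := by
  constructor
  · rintro ⟨⟨hw, hc⟩, h⟩
    exact ⟨hw, hc, fun y hy hyd ho => (h y).1 ⟨⟨hw, hc⟩, ⟨hy, hyd⟩, ho.2.2.1, ho.2.2.2⟩⟩
  · rintro ⟨hw, hc, h⟩
    refine ⟨⟨hw, hc⟩, fun y => ⟨fun ho => h y ho.2.1.1 ho.2.1.2 ⟨hw, ho.2.1.1, ho.2.2.1, ho.2.2.2⟩,
      fun ho => h y ho.1.1 ho.1.2 (oddAdj_symm K.root ⟨ho.1.1, hw, ho.2.2.1, ho.2.2.2⟩)⟩⟩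

theorem W_D {w : G} (h : w ∈ Wset D d) : w ∈ D := (K.mem_W.1 h).1

theorem W_commute {w : G} (h : w ∈ Wset D d) : Commute w d := (K.mem_W.1 h).2.1

theorem not_odd {w y : G} (h : w ∈ Wset D d) (hy : y ∈ D) (hc : Commute y d) :
    ¬ Cfsg.OddAdj D w y := (K.mem_W.1 h).2.2 y hy hc

theorem not_odd_W {v w : G} (hv : v ∈ Wset D d) (hw : w ∈ Wset D d) : ¬ Cfsg.OddAdj D v w :=
  K.not_odd hv (K.W_D hw) (K.W_commute hw)

theorem four_W {v w : G} (hv : v ∈ Wset D d) (hw : w ∈ Wset D d) (hnc : ¬ Commute v w) :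
    orderOf (v * w) = 4 :=
  four_of K.root (K.W_D hv) (K.W_D hw) hnc (K.not_odd_W hv hw)

theorem class_sq {σ : G} (h : σ ∈ Cfsg.sameCommutingClass D d) : σ * σ = 1 := mul_self K.root h.1

theorem Ed_commute {σ w : G} (h : σ ∈ Cfsg.sameCommutingClass D d) (hw : w ∈ Wset D d) :
    Commute w σ :=
  commute_class h (K.W_D hw) (K.W_commute hw)

/-- A product partner of a member with the same commuting members as `d` is isolated. -/
theorem partner_W {e r : G} (he : e ∈ Cfsg.sameCommutingClass D d)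
    (hr : r ∈ Cfsg.productPartners D e) : r ∈ Wset D d := by
  obtain ⟨⟨hrD, hre, -⟩, hreD⟩ := hr
  refine K.mem_W.2 ⟨hrD, commute_class' he hrD hre, fun y hy hyd ho => ?_⟩
  exact forbidden K.root he.1 (by rw [← hre]; exact hreD) hre.symm
    (commute_class he hy hyd).eq.symm ho

theorem self_W : d ∈ Wset D d :=
  K.mem_W.2 ⟨K.mem, Commute.refl d, fun _ hy hyd ho =>
    commute_not_odd K.root K.mem hy ho.2.2.1 hyd.eq.symm ho.2.2.2⟩

theorem class_W {r e : G} (hr : r ∈ Wset D d) (he : e ∈ Cfsg.sameCommutingClass D r) :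
    e ∈ Wset D d :=
  K.mem_W.2 ⟨he.1, (commute_class he K.mem (K.W_commute hr).symm).symm, fun y hy hyd ho =>
    K.not_odd hr hy hyd ((same_of_class K.root (K.W_D hr) he y).2 ho)⟩

theorem Ed_W {σ : G} (h : σ ∈ Cfsg.sameCommutingClass D d) : σ ∈ Wset D d :=
  K.class_W K.self_W h

/-- Members of `E(d)` are members of the class or trivial. -/
theorem mem_Ed {z : G} (h : z ∈ Cfsg.sameCommutingSubgroup D d) (h1 : z ≠ 1) :
    z ∈ Cfsg.sameCommutingClass D d := by
  have h' : z ∈ (Cfsg.sameCommutingSubgroup D d : Set G) := h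
  rw [K.classes d K.mem] at h'
  exact h'.resolve_right h1

theorem E_commute {z w : G} (h : z ∈ Cfsg.sameCommutingSubgroup D d) (hw : w ∈ Wset D d) :
    Commute w z := by
  by_cases h1 : z = 1
  · rw [h1]; exact Commute.one_right w
  · exact K.Ed_commute (K.mem_Ed h h1) hw

theorem E_sq {z : G} (h : z ∈ Cfsg.sameCommutingSubgroup D d) : z * z = 1 := by
  by_cases h1 : z = 1
  · rw [h1, mul_one]
  · exact K.class_sq (K.mem_Ed h h1)

/-- Elements fixing a member of the class preserve the isolated members. -/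
theorem conj_W {σ g w : G} (hσ : σ ∈ Cfsg.sameCommutingClass D d) (hg : Commute g σ)
    (hw : w ∈ Wset D d) : g * w * g⁻¹ ∈ Wset D d := by
  have hC : ∀ {g' : G}, Commute g' σ → ∀ y ∈ D, Commute y d → Commute (g' * y * g'⁻¹) d :=
    fun hg' y hy hyd => commute_class' hσ (K.root.conj_mem y hy _)
      ((hg'.mul_left (commute_class hσ hy hyd)).mul_left hg'.inv_left)
  refine K.mem_W.2 ⟨K.root.conj_mem w (K.W_D hw) g, hC hg w (K.W_D hw) (K.W_commute hw),
    fun y hy hyd ho => ?_⟩
  have h1 := adj_conj' K.root ho g⁻¹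
  rw [show g⁻¹ * (g * w * g⁻¹) * g⁻¹⁻¹ = w by group] at h1
  exact K.not_odd hw h1.2.1 (hC hg.inv_left y hy hyd) h1

theorem W_map {σ g : G} (hσ : σ ∈ Cfsg.sameCommutingClass D d) (hg : Commute g σ) :
    (Pgrp D d).map (MulAut.conj g).toMonoidHom = Pgrp D d := by
  rw [Pgrp, MonoidHom.map_closure]
  refine congrArg Subgroup.closure (Set.ext fun x => ⟨?_, fun hx => ⟨g⁻¹ * x * g, ?_, ?_⟩⟩)
  · rintro ⟨w, hw, rfl⟩
    exact K.conj_W hσ hg hw
  · have := K.conj_W hσ hg.inv_left hx
    rwa [inv_inv] at this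
  · show g * (g⁻¹ * x * g) * g⁻¹ = x
    group

theorem deep_conj {σ g r : G} {k : ℕ} (hσ : σ ∈ Cfsg.sameCommutingClass D d) (hg : Commute g σ)
    (hr : r ∈ Deep D d k) : g * r * g⁻¹ ∈ Deep D d k := by
  refine ⟨K.conj_W hσ hg hr.1, ?_⟩
  rw [← K.W_map hσ hg, ← Subgroup.map_lowerCentralSeries]
  exact ⟨r, hr.2, rfl⟩

theorem commute_of_mem_P {x : G} (hx : x ∈ Pgrp D d) : Commute x d := by
  induction hx using Subgroup.closure_induction with
  | mem w hw => exact K.W_commute hw
  | one => exact Commute.one_left d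
  | mul a b _ _ ha hb => exact ha.mul_left hb
  | inv a _ ha => exact ha.inv_left

theorem conj_P {σ g x : G} (hσ : σ ∈ Cfsg.sameCommutingClass D d) (hg : Commute g σ)
    (hx : x ∈ Pgrp D d) : g * x * g⁻¹ ∈ Pgrp D d := by
  rw [← K.W_map hσ hg]
  exact ⟨x, hx, rfl⟩

theorem isPGroup_P [Finite G] : IsPGroup 2 (Pgrp D d) :=
  isPGroup_closure_of_pow_four (fun _ ha => mul_self K.root (K.W_D ha))
    (fun _ hg _ ha => K.conj_W ⟨K.mem, rfl⟩ (K.commute_of_mem_P hg) ha)
    (fun a ha b hb => by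
      by_cases h : Commute a b
      · rw [show 4 = 2 * 2 from rfl, pow_mul]
        show (cm a b) ^ 2 = 1
        rw [cm_eq_one_of_commute K.root (K.W_D ha) (K.W_D hb) h, one_pow]
      · rw [← K.four_W ha hb h, pow_orderOf_eq_one])

/-- The members in the generated group are the isolated ones. -/
theorem mem_W_of_mem_P [Finite G] {x : G} (hxD : x ∈ D) (hx : x ∈ Pgrp D d) : x ∈ Wset D d := by
  refine K.mem_W.2 ⟨hxD, K.commute_of_mem_P hx, fun b hb hbd ho => ?_⟩
  obtain ⟨g, hg, hgb⟩ :=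
    CfsgLib.Invol.exists_conj_eq_of_odd (K.root.orderOf_eq x hxD) (K.root.orderOf_eq b hb) ho.2.2.2
  have hgd : Commute g d := by
    obtain ⟨i, rfl⟩ := hg
    exact ((K.commute_of_mem_P hx).mul_left hbd).zpow_left i
  have hbP : b ∈ Pgrp D d := hgb ▸ K.conj_P ⟨K.mem, rfl⟩ hgd hx
  obtain ⟨j, hj⟩ := K.isPGroup_P ⟨x * b, mul_mem hx hbP⟩
  have h1 := Nat.eq_one_of_dvd_coprimes ((Nat.coprime_two_right.2 ho.2.2.2).pow_right j) dvd_rfl
    (orderOf_dvd_of_pow_eq_one (congrArg Subtype.val hj : (x * b) ^ 2 ^ j = 1))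
  rw [orderOf_eq_one_iff] at h1
  exact ho.2.2.1 (by rw [← inv_eq K.root hb]; exact eq_inv_of_mul_eq_one_left h1)

theorem cm_W [Finite G] {p q : G} (hp : p ∈ Wset D d) (hq : q ∈ Wset D d) (hnc : ¬ Commute p q) :
    cm p q ∈ Wset D d :=
  K.mem_W_of_mem_P (four_facts K.root (K.W_D hp) (K.W_D hq) (K.four_W hp hq hnc)).1
    (pow_mem (mul_mem (Subgroup.subset_closure hp) (Subgroup.subset_closure hq)) 2)

theorem cm_deep [Finite G] {v b : G} {k : ℕ} (hv : v ∈ Deep D d k) (hb : b ∈ Wset D d)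
    (hnc : ¬ Commute v b) : cm v b ∈ Deep D d (k + 1) := by
  refine ⟨K.cm_W hv.1 hb hnc, ?_⟩
  rw [Subgroup.lowerCentralSeries_succ]
  have := Subgroup.commutator_mem_commutator hv.2 (Subgroup.subset_closure hb : b ∈ Pgrp D d)
  rwa [commutatorElement_def, inv_eq K.root (K.W_D hv.1), inv_eq K.root (K.W_D hb), ← cm_def]
    at this

theorem class_ne_one {σ : G} (h : σ ∈ Cfsg.sameCommutingClass D d) : σ ≠ 1 := fun e => by
  have := K.root.orderOf_eq σ h.1
  rw [e, orderOf_one] at this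
  exact absurd this (by decide)

theorem D_ne_one {x : G} (h : x ∈ D) : x ≠ 1 := fun e => by
  have := K.root.orderOf_eq x h
  rw [e, orderOf_one] at this
  exact absurd this (by decide)

theorem cm_ne_one {p q : G} (hp : p ∈ D) (hq : q ∈ D) (hnc : ¬ Commute p q) : cm p q ≠ 1 :=
  fun h => hnc (commute_of_cm_eq_one K.root hp hq h)

/-- An isolated member outside the class moves some product partner. -/
theorem central [Finite G] {c : G} (hc : c ∈ Wset D d)
    (hcE : c ∉ Cfsg.sameCommutingClass D d) :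
    ∃ r ∈ Cfsg.productPartners D d, ¬ Commute r c := by
  have hD := K.root
  have hO := K.oddConn
  by_contra hall
  push Not at hall
  have hcD := K.W_D hc
  obtain ⟨x, hdx, hcx⟩ : ∃ x, Cfsg.OddAdj D d x ∧ ¬ Cfsg.OddAdj D c x := by
    by_contra hh
    push Not at hh
    exact hcE (mem_class_of_same hD hO K.mem hcD (same_of_subset hD hO K.mem hcD hh))
  have hx : x ∈ D := hdx.2.1
  by_cases hcomm : Commute c x
  · have htop := closure_productPartners_eq_top K.nd K.cls K.prodConn K.mem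
      (show x ∈ Cfsg.oddPartners D d from ⟨hx, hdx.2.2.1.symm, hdx.2.2.2⟩)
    have hcen : c ∈ Subgroup.center G := by
      rw [← Subgroup.centralizer_univ, ← Subgroup.coe_top, ← htop, Subgroup.centralizer_closure]
      refine Subgroup.mem_centralizer_iff.2 ?_
      rintro z (hz | rfl)
      · exact (hall z hz).eq
      · exact hcomm.symm.eq
    rw [K.center, Subgroup.mem_bot] at hcen
    exact K.D_ne_one hcD hcen
  have o0 : orderOf (x * c) = 4 := by
    rw [orderOf_mul_comm hD hcD hx]; exact four_of hD hcD hx hcomm hcx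
  obtain ⟨hgD, cxg, o1⟩ := step hD (oddAdj_symm hD hdx) hcD (K.W_commute hc).symm.eq o0
  obtain ⟨-, -, ccg, -, ecg, -⟩ := four_facts hD hx hcD o0
  set g := (x * c) ^ 2 with hgdef
  obtain ⟨hhD, -, o2⟩ := step hD hdx hgD cxg.eq o1
  have hgd : orderOf (g * d) = 4 := by rw [orderOf_mul_comm hD K.mem hgD]; exact o1
  have hhR := sq_mem_productPartners hD hgD K.mem hgd
  rw [show (g * d) ^ 2 = (d * g) ^ 2 from cm_symm_of_four hD K.mem hgD o1] at hhR
  set h := (d * g) ^ 2 with hhdef
  have hhE : h ∉ Cfsg.sameCommutingClass D d := fun he => by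
    have h1 := oddAdj_symm hD ((same_of_class hD K.mem he x).1 hdx)
    have h2 := h1.2.2.2
    rw [o2] at h2
    exact absurd h2 (by decide)
  obtain ⟨n, hn, -, e1, -, -, hbraid⟩ := mate hD hO hhD
    (mem_productPartners_symm K.mem hhR) fun he => hhE ⟨hhD, he.2.symm⟩
  have hn3 : orderOf (g * n) = 3 := hbraid g hgD rfl
  have hnR : n ∈ Cfsg.productPartners D d := by
    have := sq_mem_productPartners hD hhD hn (four_of_sq hD hhD hn K.mem e1)
    rw [show (h * n) ^ 2 = d from e1] at this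
    exact mem_productPartners_symm hn this
  refine forbidden hD hcD ?_ ccg.eq (hall n hnR).eq.symm (oddAdj_of_three hD hgD hn hn3)
  rw [ecg]
  have := hD.conj_mem c hcD x
  rwa [inv_eq hD hx] at this

/-- The commutators of an isolated member with one class run through the class of `d`. -/
theorem cm_class [Finite G] {c n : G} (hc : c ∈ Wset D d) (hn : n ∈ Wset D d)
    (hnc : ¬ Commute c n)
    (hI : ∀ β ∈ Cfsg.sameCommutingClass D n, cm c β ∈ Cfsg.sameCommutingSubgroup D d) :
    (∀ β ∈ Cfsg.sameCommutingClass D n, cm c β ∈ Cfsg.sameCommutingClass D d) ∧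
    (∀ β ∈ Cfsg.sameCommutingClass D n, ∀ β' ∈ Cfsg.sameCommutingClass D n,
      cm c β = cm c β' → β = β') ∧
    (∀ σ ∈ Cfsg.sameCommutingClass D d, ∃ β ∈ Cfsg.sameCommutingClass D n, cm c β = σ) := by
  have hD := K.root
  have hnd := K.W_D hn
  have hcd := K.W_D hc
  have hnb : ∀ β ∈ Cfsg.sameCommutingClass D n, ¬ Commute c β := fun β hβ h =>
    hnc (commute_class' hβ hcd h)
  have hmem : ∀ β ∈ Cfsg.sameCommutingClass D n, cm c β ∈ Cfsg.sameCommutingClass D d :=
    fun β hβ => K.mem_Ed (hI β hβ) (K.cm_ne_one hcd hβ.1 (hnb β hβ))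
  have hinj : ∀ β ∈ Cfsg.sameCommutingClass D n, ∀ β' ∈ Cfsg.sameCommutingClass D n,
      cm c β = cm c β' → β = β' := by
    intro β hβ β' hβ' h
    by_contra hne
    exact hnb _ (mul_mem_class hD K.classes hnd hβ hβ' hne)
      (commute_mul_of_cm_eq hD hβ.1 hβ'.1 h)
  refine ⟨hmem, hinj, fun σ hσ => ?_⟩
  have heq := Set.eq_of_subset_of_ncard_le (s := cm c '' Cfsg.sameCommutingClass D n)
    (t := Cfsg.sameCommutingClass D d) (by rintro _ ⟨β, hβ, rfl⟩; exact hmem β hβ)
    (by rw [Set.InjOn.ncard_image (fun β hβ β' hβ' => hinj β hβ β' hβ'),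
      ncard_class K.cls K.mem hnd]) (Set.toFinite _)
  rw [← heq] at hσ
  exact hσ

/-- The commutator of two isolated members cannot be moved into the class by a member fixing one
of them. -/
theorem lemma1 [Finite G] {A B N : G} (hA : A ∈ Wset D d) (hB : B ∈ Wset D d)
    (hN : N ∈ Wset D d) (hAB : ¬ Commute A B) (hNB : Commute N B)
    (h : cm (cm A B) N ∈ Cfsg.sameCommutingClass D d) : False := by
  have hD := K.root
  have hAD := K.W_D hA
  have hBD := K.W_D hB
  have hND := K.W_D hN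
  have hJ := K.cm_W hA hB hAB
  obtain ⟨hJD, cAJ, cBJ, -, eBJ, -⟩ := four_facts hD hAD hBD (K.four_W hA hB hAB)
  set J := cm A B with hJdef
  have hJN : ¬ Commute J N := fun hc => K.class_ne_one h (cm_eq_one_of_commute hD hJD hND hc)
  have o := K.four_W hJ hN hJN
  set e := cm J N with hedef
  have hNe : N ∈ Cfsg.productPartners D e :=
    mem_productPartners_symm hND (sq_mem_productPartners hD hJD hND o)
  have hnot : N ∉ Cfsg.sameCommutingClass D e := fun hcl =>
    hJN (commute_class hcl hJD (K.Ed_commute h hJ))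
  obtain ⟨m, hmD, cNm, hem, hme, o4, hbraid⟩ := mate hD K.oddConn h.1 hNe hnot
  have h3 : orderOf (J * m) = 3 :=
    hbraid J hJD (cm_symm_of_four hD hJD hND o)
  have hBJD : B * J ∈ D := by
    show B * (A * B) ^ 2 ∈ D
    rw [eBJ]
    have := hD.conj_mem B hBD A
    rwa [inv_eq hD hAD] at this
  have hJm := oddAdj_of_three hD hJD hmD h3
  have cBe : Commute B e := K.Ed_commute h hB
  by_cases hBm : Commute B m
  · exact forbidden hD hBD hBJD cBJ.eq hBm.eq hJm
  by_cases hodd : Cfsg.OddAdj D B m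
  · obtain ⟨-, -, o5⟩ := step hD (oddAdj_symm hD hodd) h.1 cBe.eq o4
    rw [show (m * e) ^ 2 = N from hme] at o5
    exact not_commute_of_four hD hBD hND o5 hNB.symm
  have o6 : orderOf (m * B) = 4 := by
    rw [orderOf_mul_comm hD hBD hmD]; exact four_of hD hBD hmD hBm hodd
  obtain ⟨hqD, -, -, -, -, -⟩ := four_facts hD hmD hBD o6
  have hp := propagate hD hJD hmD hBD h3 cBJ.symm (by rw [← cBJ.eq]; exact hBJD) o6
  set q := (m * B) ^ 2 with hqdef
  have e1 : m * e * m = e * N := by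
    obtain ⟨-, -, -, -, ee, -⟩ := four_facts hD hmD h.1 o4
    rw [show (m * e) ^ 2 = N from hme] at ee
    exact ee.symm
  have hqe : Commute q e := by
    have e2 : q * e = e * q := by
      have t1 : B * (m * e * m) * B = e * N := by
        rw [e1, ← mul_assoc, cBe.eq, mul_assoc e B N, ← hNB.eq, mul_assoc, mul_assoc,
          mul_self hD hBD, mul_one]
      have t2 : m * (e * N) * m = e := by
        rw [← mul_assoc, mul_assoc (m * e) N m, cNm.eq, ← mul_assoc, e1, mul_assoc,
          mul_self hD hND, mul_one]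
      have t3 : B * e * B = e := by rw [cBe.eq, mul_assoc, mul_self hD hBD, mul_one]
      have t : q * e * q⁻¹ = e := by
        rw [inv_eq hD hqD]
        conv_lhs => arg 2; rw [show q = (B * m) ^ 2 from (cm_symm_of_four hD hmD hBD o6).symm]
        rw [hqdef]
        calc (m * B) ^ 2 * e * (B * m) ^ 2 = m * (B * (m * (B * e * B) * m) * B) * m := by
              simp only [pow_two, mul_assoc]
          _ = e := by rw [t3, t1, t2]
      rwa [mul_inv_eq_iff_eq_mul] at t
    exact e2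
  have hAq : orderOf (A * q) = 3 :=
    braid hD hJD hBD hAD hqD (cm_symm_of_four hD hAD hBD (K.four_W hA hB hAB)) hp
  exact K.not_odd hA hqD (commute_class' h hqD hqe) (oddAdj_of_three hD hAD hqD hAq)

end Ctx

end CfsgLib.RootInvol.Structure
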